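import Cfsg.Agent.H173.RU.Lift
import Cfsg.Agent.BpField.PSU

/-!
# Row PSU of S4329: automorphisms of prime order of `PSU n F q` and the elements they centralise
-/

set_option autoImplicit false

namespace Cfsg.Agent.H173.RU

open Cfsg Module Matrix Subgroup
open Cfsg.Agent.LieClassical.HermBasic Cfsg.Agent.LieClassical.HermSiegel
open Cfsg.Agent.ClassicalGeometry.HermOrtho
open Cfsg.Agent.ClassicalGeometry.PSUAutBasic (pr pr_surjective pr_eq_one_iff exists_center_mul)
open Cfsg.Agent.ClassicalGeometry.PSUAutCount (gm gm_mul gm_one gm_mul_inv gm_inv_mul gm_inj herm_gm gm_inv_mulVec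
  gm_mulVec_inv semiConj toAut toAut_pr act_semiConj eq_of_toAut_eq sc gm_sc_mul toAut_sc_mul)
open Cfsg.Agent.CpAutU.Desc (toAut_mul toAut_one)
open Cfsg.Agent.GpUn
open Cfsg.Agent.H568

variable {F : Type*} [Field F] [Fintype F] {q n l k : ℕ}

/-! ### Lifts -/

theorem eq_of_pr_eq (hF : Fintype.card F = q ^ 2) (hn : 3 ≤ n) (hl : l.Coprime (q + 1)) {y y' : SU n F q}
    (hy : y ^ l = 1) (hy' : y' ^ l = 1) (h : pr n F q y = pr n F q y') : y = y' := by
  obtain ⟨z, hz, hz1⟩ := exists_center_mul h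
  have hzc : Commute y z := (mem_center_iff.1 hz) y
  have h1 : y' = y * z := hz1
  have h2 : z ^ l = 1 := by
    rw [h1, hzc.mul_pow, hy, one_mul] at hy'
    exact hy'
  have h3 := eq_one_of_center hF hn hl hz h2
  rw [h1, h3, mul_one]

theorem exists_lift_elt (hF : Fintype.card F = q ^ 2) (hn : 3 ≤ n) (hl : l.Coprime (q + 1)) {z : PSU n F q}
    (hz : z ^ l = 1) : ∃ y : SU n F q, y ^ l = 1 ∧ pr n F q y = z := by
  obtain ⟨g, rfl⟩ := pr_surjective z
  have h1 : g ^ l ∈ center (SU n F q) := by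
    rw [← pr_eq_one_iff, map_pow]
    exact hz
  obtain ⟨j, hj1, hj2⟩ := Nat.chineseRemainder hl 1 0
  refine ⟨g ^ j, ?_, ?_⟩
  · rw [← pow_mul, mul_comm, pow_mul]
    obtain ⟨k, hk⟩ := (Nat.modEq_zero_iff_dvd.1 hj2)
    rw [hk, pow_mul, center_pow hF hn h1, one_pow]
  · rw [map_pow]
    have h3 : pr n F q g ^ j = pr n F q g ^ 1 := by
      rw [pow_eq_pow_iff_modEq]
      exact hj1.of_dvd (orderOf_dvd_of_pow_eq_one hz)
    rw [h3, pow_one]

/-- An element of `SU` fixed modulo the centre by a linear automorphism is centralised by the matrix. -/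
theorem comm_of_fix (hF : Fintype.card F = q ^ 2) (hn : 3 ≤ n) (hl : l.Coprime (q + 1)) {A : GU n F q}
    {y : SU n F q} (hy : y ^ l = 1) (h : toAut A 1 (pr n F q y) = pr n F q y) (v : Fin n → F) :
    gm A *ᵥ act y v = act y (gm A *ᵥ v) := by
  have h1 : pr n F q (semiConj A 1 y) = pr n F q y := h
  have h2 : semiConj A 1 y = y := by
    refine eq_of_pr_eq hF hn hl ?_ hy h1
    rw [← map_pow, hy, map_one]
  have h3 := act_semiConj A 1 y v
  rw [h2] at h3
  exact h3.symm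

omit [Fintype F] in
theorem toAut_eq_one_of_scalar (hn : 3 ≤ n) {A : GU n F q} {c : F}
    (h : ∀ v, gm A *ᵥ v = c • v) : toAut A 1 = 1 := by
  have hc : c * c ^ q = 1 := by
    have h1 := herm_gm A (Pi.single ⟨0, by omega⟩ 1) (Pi.single ⟨0, by omega⟩ 1)
    rw [h, herm_smul_left, herm_smul_right, herm_single_left, Pi.single_eq_same, one_pow] at h1
    linear_combination h1
  have h2 : A = sc n ⟨c, hc⟩ * 1 := by
    apply gm_inj
    rw [gm_sc_mul, gm_one]
    apply Matrix.ext_of_mulVec_single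
    intro i
    rw [h, Matrix.smul_mulVec, one_mulVec]
  rw [h2, toAut_sc_mul, toAut_one]

/-- `A ^ p` is scalar for a linear automorphism of order `p`. -/
theorem exists_scalar_pow (hF : Fintype.card F = q ^ 2) (hn : 3 ≤ n) {p : ℕ} {A : GU n F q}
    (h : toAut A 1 ^ p = 1) : ∃ c : F, c * c ^ q = 1 ∧ gm A ^ p = c • 1 := by
  obtain ⟨-, c, hc1, hc⟩ := Cfsg.Agent.CpAutU.Desc.exists_scalar hF hn h
  refine ⟨c, hc1, ?_⟩
  have h1 : ∀ k : ℕ, ∀ v, (Cfsg.Agent.CpAut.Psl.perm (A : GL (Fin n) F) 1 ^ k) v = gm A ^ k *ᵥ v := by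
    intro k
    induction k with
    | zero => intro v; rw [pow_zero, pow_zero, one_mulVec]; rfl
    | succ k ih =>
      intro v
      rw [pow_succ, Equiv.Perm.mul_apply, ih, pow_succ, ← mulVec_mulVec]
      rfl
  apply Matrix.ext_of_mulVec_single
  intro i
  rw [← h1, hc, Matrix.smul_mulVec, one_mulVec]

/-- If `p` is prime to `q + 1`, a linear automorphism of order `p` is induced by an element of `SU` of order `p`. -/
theorem exists_su (hF : Fintype.card F = q ^ 2) (hn : 3 ≤ n) {p : ℕ} (hp : p.Coprime (q + 1)) {A : GU n F q}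
    (h : toAut A 1 ^ p = 1) :
    ∃ (g : SU n F q) (B : GU n F q), g ^ p = 1 ∧ toAut B 1 = toAut A 1 ∧ (∀ v, gm B *ᵥ v = act g v) ∧
      toAut A 1 = MulAut.conj (pr n F q g) := by
  obtain ⟨c, hc, hA⟩ := exists_scalar_pow hF hn h
  have hcq : c ^ (q + 1) = 1 := by rw [pow_succ', hc]
  have hc0 : c ≠ 0 := by rintro rfl; rw [zero_mul] at hc; exact zero_ne_one hc
  obtain ⟨j, hj1, -⟩ : ∃ j : ℕ, p * j ≡ 1 [MOD (q + 1)] ∧ True := by
    obtain ⟨j, hj⟩ := Nat.exists_mul_mod_eq_one_of_coprime hp (by have := two_le hF; omega)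
    exact ⟨j, by rw [Nat.ModEq, hj.2, Nat.mod_eq_of_lt (by have := two_le hF; omega)], trivial⟩
  set t := c ^ j with ht
  have ht0 : t ≠ 0 := pow_ne_zero _ hc0
  have htp : t ^ p = c := by
    rw [ht, ← pow_mul, mul_comm]
    have h2 : c ^ (p * j) = c ^ 1 := by
      have hu : (Units.mk0 c hc0) ^ (p * j) = (Units.mk0 c hc0) ^ 1 := by
        rw [pow_eq_pow_iff_modEq]
        refine hj1.of_dvd (orderOf_dvd_of_pow_eq_one ?_)
        ext
        simpa using hcq
      simpa using congrArg Units.val hu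
    rw [h2, pow_one]
  have htq : t * t ^ q = 1 := by
    rw [← pow_succ', ht, ← pow_mul, mul_comm, pow_mul, hcq, one_pow]
  have hti : t⁻¹ * (t⁻¹) ^ q = 1 := by rw [inv_pow, ← mul_inv, htq, inv_one]
  obtain ⟨B, hB⟩ : ∃ B : GU n F q, B = sc n ⟨t⁻¹, hti⟩ * A := ⟨_, rfl⟩
  have hgB : gm B = t⁻¹ • gm A := by rw [hB, gm_sc_mul]
  have hBp : (gm B) ^ p = 1 := by
    rw [hgB, smul_pow, hA, inv_pow, htp, smul_smul, inv_mul_cancel₀ hc0, one_smul]
  have hdet : (gm B).det = 1 := by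
    have h2 : (gm B).det ^ p = 1 := by rw [← det_pow, hBp, det_one]
    have h3 : (gm B).det ^ (q + 1) = 1 := by
      have h4 := Cfsg.Agent.LieClassical.GUOrder.det_mul_frob_det hF (gm B) (fun u v => herm_gm B u v)
      exact h4
    have hd0 : (gm B).det ≠ 0 := by
      intro h0
      rw [h0, zero_pow (by omega)] at h3
      exact zero_ne_one h3
    have h5 : orderOf (Units.mk0 _ hd0) ∣ Nat.gcd p (q + 1) := by
      apply Nat.dvd_gcd
      · apply orderOf_dvd_of_pow_eq_one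
        ext
        simpa using h2
      · apply orderOf_dvd_of_pow_eq_one
        ext
        simpa using h3
    rw [hp, Nat.dvd_one, orderOf_eq_one_iff] at h5
    simpa using congrArg Units.val h5
  have hBA : toAut B 1 = toAut A 1 := by rw [hB, toAut_sc_mul]
  refine ⟨mkSU (gm B) hdet (fun u v => herm_gm B u v), B, ?_, hBA, ?_, ?_⟩
  · apply mat_injective
    have h6 : ∀ (g : SU n F q) (k : ℕ), mat (g ^ k) = mat g ^ k := by
      intro g k
      induction k with
      | zero => rw [pow_zero, pow_zero]; rfl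
      | succ k ih => rw [pow_succ, pow_succ, ← ih]; rfl
    rw [h6, mat_mkSU, hBp]
    rfl
  · intro v
    rw [act_def, mat_mkSU]
  · rw [← hBA]
    exact Cfsg.Agent.Schreier.PSU.f₁_eq_conj B (mkSU (gm B) hdet (fun u v => herm_gm B u v)) rfl

/-! ### Conjugates -/

theorem exists_conj_field (hF : Fintype.card F = q ^ 2) (hn : 3 ≤ n) (h32 : ¬ (n = 3 ∧ q = 2)) (A : GU n F q)
    (ρ : F ≃+* F) (g : MulAut (PSU n F q)) : ∃ (A' : GU n F q) (ρ' : F ≃+* F), g * toAut A ρ * g⁻¹ = toAut A' ρ' ∧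
      (ρ' = 1 ↔ ρ = 1) := by
  obtain ⟨A', ρ', h1⟩ := Cfsg.Agent.ClassicalGeometry.PSUAutMain.exists_toAut hF hn h32 (g * toAut A ρ * g⁻¹)
  obtain ⟨B, σ, rfl⟩ := Cfsg.Agent.ClassicalGeometry.PSUAutMain.exists_toAut hF hn h32 g
  refine ⟨A', ρ', h1, ?_⟩
  have h2 : toAut A' ρ' * toAut B σ = toAut B σ * toAut A ρ := by rw [← h1, inv_mul_cancel_right]
  rw [toAut_mul, toAut_mul] at h2
  obtain ⟨h3, -⟩ := eq_of_toAut_eq hF hn h2
  constructor
  · rintro rfl
    rw [one_mul] at h3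
    exact mul_eq_left.1 h3
  · rintro rfl
    rw [mul_one] at h3
    exact mul_eq_right.1 h3.symm

end Cfsg.Agent.H173.RU
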