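import Mathlib

/-!
# Row PSU of S4329: linear algebra over a finite field
-/

set_option autoImplicit false

namespace Cfsg.Agent.H173.RU

open Module Polynomial

section

variable {F : Type*} [Field F] [Fintype F]

theorem prod_X_sub : (∏ c : F, (X - C c)) = X ^ Fintype.card F - X := by
  have h1 : (X ^ Fintype.card F - X : F[X]).roots = Finset.univ.val := FiniteField.roots_X_pow_card_sub_X F
  have hm : (X ^ Fintype.card F - X : F[X]).Monic := by
    apply monic_X_pow_sub
    rw [degree_X]
    exact_mod_cast Fintype.one_lt_card
  have h2 : Multiset.card (X ^ Fintype.card F - X : F[X]).roots = (X ^ Fintype.card F - X : F[X]).natDegree := by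
    rw [h1, FiniteField.X_pow_card_sub_X_natDegree_eq F Fintype.one_lt_card]
    rfl
  have h3 := prod_multiset_X_sub_C_of_monic_of_roots_card_eq hm h2
  rw [h1] at h3
  exact h3

variable {V : Type*} [AddCommGroup V] [Module F V]

/-- A linear map satisfying `g ^ |F| = g` has an eigenvector. -/
theorem exists_eigen [Nontrivial V] (g : Module.End F V) (h : g ^ Fintype.card F = g) :
    ∃ (c : F) (v : V), v ≠ 0 ∧ g v = c • v := by
  by_contra hcon
  push Not at hcon
  have h1 : aeval g (∏ c : F, (X - C c)) = 0 := by
    rw [prod_X_sub, map_sub, map_pow, aeval_X, h, sub_self]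
  have h2 : ∀ s : Finset F, Function.Injective (aeval g (∏ c ∈ s, (X - C c))) := by
    classical
    intro s
    induction s using Finset.induction_on with
    | empty => rw [Finset.prod_empty, map_one]; exact fun _ _ h => h
    | insert a s ha ih =>
      rw [Finset.prod_insert ha, map_mul]
      have h3 : Function.Injective (aeval g (X - C a)) := by
        rw [injective_iff_map_eq_zero]
        intro v hv
        rw [map_sub, aeval_X, aeval_C, LinearMap.sub_apply, Module.algebraMap_end_apply, sub_eq_zero] at hv
        by_contra h0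
        exact hcon a v h0 hv
      exact h3.comp ih
  obtain ⟨v, hv⟩ := exists_ne (0 : V)
  apply hv
  apply h2 Finset.univ
  rw [h1, LinearMap.zero_apply, LinearMap.zero_apply]

end

/-- The number of points moved freely by a group is divisible by its order. -/
theorem card_dvd_of_free {G : Type*} [Group G] [Finite G] {X : Type*} [Finite X] [MulAction G X]
    (h : ∀ (g : G) (x : X), g • x = x → g = 1) : Nat.card G ∣ Nat.card X := by
  classical
  cases nonempty_fintype G
  cases nonempty_fintype X
  have := Fintype.ofFinite (Quotient (MulAction.orbitRel G X))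
  have h1 := MulAction.card_eq_sum_card_group_div_card_stabilizer G X
  rw [Nat.card_eq_fintype_card, Nat.card_eq_fintype_card, h1]
  apply Finset.dvd_sum
  intro ω _
  have h2 : Fintype.card ↥(MulAction.stabilizer G (Quotient.out ω : X)) = 1 := by
    rw [Fintype.card_eq_one_iff]
    refine ⟨1, fun y => Subtype.ext ?_⟩
    exact h _ _ (MulAction.mem_stabilizer_iff.1 y.2)
  rw [h2, Nat.div_one]

/-- A permutation of finite order `d` preserving a finite set `X`, all of whose powers fixing a point of `X` are
trivial. -/
theorem orderOf_dvd_of_free {G : Type*} [Group G] [Finite G] (a : G) {α : Type*} [MulAction G α] (X : Set α)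
    [Finite X] (hX : ∀ x ∈ X, a • x ∈ X) (h : ∀ (j : ℕ), ∀ x ∈ X, a ^ j • x = x → a ^ j = 1) :
    orderOf a ∣ Nat.card X := by
  classical
  have hpow : ∀ (j : ℕ), ∀ x ∈ X, a ^ j • x ∈ X := by
    intro j
    induction j with
    | zero => intro x hx; rwa [pow_zero, one_smul]
    | succ j ih => intro x hx; rw [pow_succ', mul_smul]; exact hX _ (ih x hx)
  have hz : ∀ g : ↥(Subgroup.zpowers a), ∃ j : ℕ, (g : G) = a ^ j := by
    rintro ⟨g, hg⟩
    have : g ∈ Submonoid.powers a := by rwa [mem_powers_iff_mem_zpowers]
    obtain ⟨j, hj⟩ := this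
    exact ⟨j, hj.symm⟩
  let act : MulAction ↥(Subgroup.zpowers a) X :=
    { smul := fun g x => ⟨(g : G) • (x : α), by obtain ⟨j, hj⟩ := hz g; rw [hj]; exact hpow j x x.2⟩
      one_smul := fun x => Subtype.ext (one_smul G (x : α))
      mul_smul := fun g g' x => Subtype.ext (mul_smul (g : G) (g' : G) (x : α)) }
  have h1 : Nat.card ↥(Subgroup.zpowers a) ∣ Nat.card X := by
    apply card_dvd_of_free
    intro g x hgx
    obtain ⟨j, hj⟩ := hz g
    apply Subtype.ext
    rw [hj]
    apply h j x x.2
    rw [← hj]
    exact congrArg Subtype.val hgx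
  rwa [Nat.card_zpowers] at h1

end Cfsg.Agent.H173.RU
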