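import Cfsg.Agent.Lib.Zsigmondy

/-!
# Row PSU of S4329: the order of `-q` modulo a prime
-/

set_option autoImplicit false

namespace Cfsg.Agent.H173.RU

open Cfsg.Agent.Lib.Zsigmondy

/-- The order of `-q` modulo the prime `l` is `k` (and `l` does not divide `q`). -/
structure Ty (q l k : ℕ) : Prop where
  prime : l.Prime
  ord : orderOf (-(q : ZMod l)) = k
  pos : 0 < k

variable {q l k : ℕ}

theorem Ty.not_dvd (h : Ty q l k) : ¬ l ∣ q := by
  intro hd
  have := Fact.mk h.prime
  have h0 : (q : ZMod l) = 0 := (ZMod.natCast_eq_zero_iff q l).2 hd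
  have h1 := h.ord
  rw [h0, neg_zero] at h1
  have h2 := pow_orderOf_eq_one (0 : ZMod l)
  rw [h1, zero_pow h.pos.ne'] at h2
  exact zero_ne_one h2

theorem Ty.dvd_U (h : Ty q l k) (hq : 1 ≤ q) (i : ℕ) :
    l ∣ (if Even i then q ^ (i + 1) + 1 else q ^ (i + 1) - 1) ↔ k ∣ i + 1 := by
  rw [← h.ord, orderOf_dvd_iff_pow_eq_one, ← ZMod.natCast_eq_zero_iff]
  by_cases hi : Even i
  · rw [if_pos hi, Odd.neg_pow (by exact hi.add_one)]
    push_cast
    constructor
    · intro h1
      rw [add_eq_zero_iff_eq_neg] at h1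
      rw [h1, neg_neg]
    · intro h1
      rw [neg_eq_iff_eq_neg] at h1
      rw [h1, neg_add_cancel]
  · rw [if_neg hi, Even.neg_pow (by rw [Nat.even_add_one]; exact hi), Nat.cast_sub (Nat.one_le_pow _ _ hq)]
    push_cast
    rw [sub_eq_zero]

theorem Ty.dvd_sq (h : Ty q l k) (hq : 1 ≤ q) (m : ℕ) : l ∣ (q ^ 2) ^ m - 1 ↔ k ∣ 2 * m := by
  rw [← h.ord, orderOf_dvd_iff_pow_eq_one, ← ZMod.natCast_eq_zero_iff,
    Nat.cast_sub (Nat.one_le_pow _ _ (Nat.one_le_pow _ _ hq)), Even.neg_pow ⟨m, by ring⟩, ← pow_mul]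
  push_cast
  rw [sub_eq_zero]

/-- `l` does not divide `q + 1` if `2 ≤ k`. -/
theorem Ty.not_dvd_succ (h : Ty q l k) (hq : 1 ≤ q) (hk : 2 ≤ k) : ¬ l ∣ q + 1 := by
  intro h1
  have h2 := (h.dvd_U hq 0).1 (by simpa using h1)
  have := Nat.le_of_dvd (by norm_num) h2
  omega

theorem Ty.coprime_succ (h : Ty q l k) (hq : 1 ≤ q) (hk : 2 ≤ k) : l.Coprime (q + 1) :=
  (Nat.Prime.coprime_iff_not_dvd h.prime).2 (h.not_dvd_succ hq hk)

/-! ### The order of `-a` -/

section

variable {l : ℕ} {a : ZMod l}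

theorem pow_half (hl : l.Prime) {m : ℕ} (hm : 0 < m) (h : orderOf a = 2 * m) : a ^ m = -1 := by
  have := Fact.mk hl
  have h1 : (a ^ m) * (a ^ m) = 1 := by rw [← pow_add, ← two_mul, ← h]; exact pow_orderOf_eq_one a
  rcases mul_self_eq_one_iff.1 h1 with h4 | h4
  · exfalso
    have := orderOf_dvd_of_pow_eq_one h4
    rw [h] at this
    have := Nat.le_of_dvd hm this
    omega
  · exact h4

theorem ord_neg_of_two_mul_odd (hl : l.Prime) {m : ℕ} (hm : Odd m) (h : orderOf a = 2 * m) :
    orderOf (-a) = m := by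
  have h3 := pow_half hl hm.pos h
  have h5 : -a = a ^ (m + 1) := by rw [pow_succ, h3, neg_one_mul]
  have hfin : IsOfFinOrder a := by
    rw [← orderOf_pos_iff, h]
    have := hm.pos
    omega
  rw [h5, IsOfFinOrder.orderOf_pow a (m + 1) hfin, h]
  obtain ⟨j, rfl⟩ := hm
  have h6 : Nat.gcd (2 * (2 * j + 1)) (2 * j + 1 + 1) = 2 := by
    have h7 : 2 * j + 1 + 1 = 2 * (j + 1) := by ring
    rw [h7, Nat.gcd_mul_left]
    have h8 : Nat.gcd (2 * j + 1) (j + 1) = 1 := by
      have h9 : 2 * j + 1 = j + (j + 1) := by ring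
      rw [h9, Nat.gcd_add_self_left]
      simp
    rw [h8]
  rw [h6, Nat.mul_div_cancel_left _ (by norm_num)]

theorem ord_neg_of_odd (hl : l.Prime) (hl2 : l ≠ 2) {m : ℕ} (hm : Odd m) (h : orderOf a = m) :
    orderOf (-a) = 2 * m := by
  have := Fact.mk hl
  have h1 : orderOf (-1 : ZMod l) = 2 := by
    rw [orderOf_neg_one, ZMod.ringChar_zmod_n, if_neg hl2]
  have h2 : Nat.Coprime (orderOf (-1 : ZMod l)) (orderOf a) := by
    rw [h1, h]
    exact (Nat.coprime_two_left).2 hm
  have h3 := (Commute.all (-1 : ZMod l) a).orderOf_mul_eq_mul_orderOf_of_coprime h2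
  rw [neg_one_mul, h1, h] at h3
  exact h3

theorem ord_neg_of_four (hl : l.Prime) {j : ℕ} (hj : 0 < j) (h : orderOf a = 4 * j) : orderOf (-a) = 4 * j := by
  have h3 := pow_half hl (m := 2 * j) (by omega) (by rw [h]; ring)
  have h5 : -a = a ^ (2 * j + 1) := by rw [pow_succ, h3, neg_one_mul]
  have hfin : IsOfFinOrder a := by
    rw [← orderOf_pos_iff, h]
    omega
  rw [h5, IsOfFinOrder.orderOf_pow a (2 * j + 1) hfin, h]
  have h6 : Nat.gcd (4 * j) (2 * j + 1) = 1 := by
    have h7 : Nat.Coprime (2 * (2 * j)) (2 * j + 1) := by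
      apply Nat.Coprime.mul_left
      · rw [Nat.coprime_two_left]
        exact ⟨j, rfl⟩
      · simp
    have h8 : 4 * j = 2 * (2 * j) := by ring
    rw [h8]
    exact h7
  rw [h6, Nat.div_one]

end

/-! ### Existence -/

/-- Odd `k`: a prime with `r` of order `2 f k`, where `q = r ^ f`. -/
theorem exists_odd {r f : ℕ} (hr : r.Prime) (hf : 1 ≤ f) (hq : q = r ^ f) {k : ℕ} (hk : Odd k) (hk3 : 3 ≤ k)
    (h23 : ¬ (q = 2 ∧ k = 3)) : ∃ l, Ty q l k ∧ orderOf (r : ZMod l) = 2 * f * k ∧ 2 * k < l ∧ 2 * f * k < l := by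
  have h1 : 3 ≤ f * k := by
    calc 3 ≤ k := hk3
      _ = 1 * k := (one_mul k).symm
      _ ≤ f * k := Nat.mul_le_mul_right _ hf
  have h0 : 2 * f * k = 2 * (f * k) := by ring
  obtain ⟨l, hl, hord⟩ := exists_prime_orderOf (a := r) (n := 2 * f * k) hr.two_le (by omega) (by omega) (by
    rintro ⟨rfl, h6⟩
    apply h23
    have h7 : f * k = 3 := by omega
    have h8 : f = 1 := by
      have h9 : k ≤ 3 := by
        calc k = 1 * k := (one_mul k).symm
          _ ≤ f * k := Nat.mul_le_mul_right _ hf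
          _ = 3 := h7
      have h10 : k = 3 := by omega
      subst h10
      omega
    subst h8
    rw [one_mul] at h7
    exact ⟨by rw [hq, pow_one], h7⟩)
  have hrl : ¬ l ∣ r := by
    intro hd
    have := Fact.mk hl
    have h2 : (r : ZMod l) = 0 := (ZMod.natCast_eq_zero_iff r l).2 hd
    have h3 : (r : ZMod l) ^ (2 * f * k) = 1 := by rw [← hord]; exact pow_orderOf_eq_one _
    rw [h2, zero_pow (by omega)] at h3
    exact zero_ne_one h3
  have hdvd := orderOf_dvd_pred hl hrl
  rw [hord] at hdvd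
  have hle := Nat.le_of_dvd (by have := hl.two_le; omega) hdvd
  have hl2 := hl.two_le
  have hfk : k ≤ f * k := by
    calc k = 1 * k := (one_mul k).symm
      _ ≤ f * k := Nat.mul_le_mul_right _ hf
  refine ⟨l, ⟨hl, ?_, by omega⟩, hord, by omega, by omega⟩
  apply ord_neg_of_two_mul_odd hl hk
  rw [hq]
  push_cast
  rw [orderOf_pow_of_dvd (by omega) (by rw [hord]; exact ⟨2 * k, by ring⟩), hord,
    show 2 * f * k = f * (2 * k) by ring, Nat.mul_div_cancel_left _ (by omega)]

/-- Even `n`: a prime with `-q` of order `n`, larger than `n`. -/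
theorem exists_even {r f : ℕ} (hr : r.Prime) (hf : 1 ≤ f) (hq : q = r ^ f) {n : ℕ} (hn : Even n) (hn4 : 4 ≤ n) :
    ∃ l, Ty q l n ∧ n < l := by
  have hpow : ∀ {l d : ℕ}, orderOf (r : ZMod l) = f * d → orderOf (q : ZMod l) = d := by
    intro l d h
    rw [hq]
    push_cast
    rw [orderOf_pow_of_dvd (by omega) (by rw [h]; exact ⟨d, rfl⟩), h, Nat.mul_div_cancel_left _ (by omega)]
  have hnot : ∀ {l d : ℕ}, l.Prime → 0 < d → orderOf (r : ZMod l) = d → ¬ l ∣ r := by
    intro l d hl hd hord hdv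
    have := Fact.mk hl
    have h2 : (r : ZMod l) = 0 := (ZMod.natCast_eq_zero_iff r l).2 hdv
    have h3 : (r : ZMod l) ^ d = 1 := by rw [← hord]; exact pow_orderOf_eq_one _
    rw [h2, zero_pow (by omega)] at h3
    exact zero_ne_one h3
  have hfn : n ≤ f * n := by
    calc n = 1 * n := (one_mul n).symm
      _ ≤ f * n := Nat.mul_le_mul_right _ hf
  rcases Nat.even_or_odd (n / 2) with h4 | h4
  · -- `4 ∣ n`
    obtain ⟨j, hj⟩ : ∃ j, n = 4 * j := by
      obtain ⟨a, ha⟩ := hn
      obtain ⟨b, hb⟩ := h4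
      exact ⟨b, by omega⟩
    obtain ⟨l, hl, hord⟩ := exists_prime_orderOf (a := r) (n := f * n) hr.two_le (by omega) (by omega) (by
      rintro ⟨-, h6⟩
      have h7 : n ∣ 6 := ⟨f, by rw [← h6]; ring⟩
      have h8 := Nat.le_of_dvd (by norm_num) h7
      interval_cases n <;> omega)
    have hdvd := orderOf_dvd_pred hl (hnot hl (by omega) hord)
    rw [hord] at hdvd
    have hle := Nat.le_of_dvd (by have := hl.two_le; omega) hdvd
    have hl2 := hl.two_le
    refine ⟨l, ⟨hl, ?_, by omega⟩, by omega⟩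
    rw [hj]
    exact ord_neg_of_four hl (by omega) (by rw [← hj]; exact hpow hord)
  · -- `n / 2` odd
    obtain ⟨m, hm⟩ : ∃ m, n = 2 * m := by
      obtain ⟨a, ha⟩ := hn
      exact ⟨a, by omega⟩
    have hmo : Odd m := by rwa [hm, Nat.mul_div_cancel_left _ (by norm_num)] at h4
    have hm3 : 3 ≤ m := by
      obtain ⟨b, hb⟩ := hmo
      omega
    have hfm : m ≤ f * m := by
      calc m = 1 * m := (one_mul m).symm
        _ ≤ f * m := Nat.mul_le_mul_right _ hf
    by_cases h6 : r = 2 ∧ f * m = 6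
    · obtain ⟨rfl, h7⟩ := h6
      have h8 : m ∣ 6 := ⟨f, by rw [← h7]; ring⟩
      have h9 := Nat.le_of_dvd (by norm_num) h8
      have h10 : m = 3 := by
        obtain ⟨b, hb⟩ := hmo
        have : m = 3 ∨ m = 5 := by omega
        rcases this with h | h
        · exact h
        · subst h; omega
      subst h10
      have h11 : f = 2 := by omega
      subst h11
      refine ⟨7, ⟨by norm_num, ?_, by omega⟩, by omega⟩
      rw [hm, hq]
      have : Fact (Nat.Prime 7) := ⟨by norm_num⟩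
      apply ord_neg_of_odd (by norm_num) (by norm_num) ⟨1, by norm_num⟩
      rw [orderOf_eq_prime_iff]
      constructor
      · decide
      · decide
    · obtain ⟨l, hl, hord⟩ := exists_prime_orderOf (a := r) (n := f * m) hr.two_le (by omega) (by omega) h6
      have hdvd := orderOf_dvd_pred hl (hnot hl (by omega) hord)
      rw [hord] at hdvd
      have hle := Nat.le_of_dvd (by have := hl.two_le; omega) hdvd
      have hl2 := hl.two_le
      have hl3 : l ≠ 2 := by omega
      have hlo : Even (l - 1) := by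
        rcases hl.eq_two_or_odd' with h | h
        · exact absurd h hl3
        · obtain ⟨b, hb⟩ := h
          exact ⟨b, by omega⟩
      refine ⟨l, ⟨hl, ?_, by omega⟩, ?_⟩
      · rw [hm]
        exact ord_neg_of_odd hl hl3 hmo (hpow hord)
      · rcases Nat.even_or_odd f with hfe | hfo
        · obtain ⟨b, hb⟩ := hfe
          have : 2 * m ≤ f * m := Nat.mul_le_mul_right _ (by omega)
          omega
        · have h12 : 2 * (f * m) ∣ l - 1 := by
            apply Nat.Coprime.mul_dvd_of_dvd_of_dvd _ hlo.two_dvd hdvd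
            exact (Nat.coprime_two_left).2 (hfo.mul hmo)
          have := Nat.le_of_dvd (by omega) h12
          omega

end Cfsg.Agent.H173.RU
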