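import Cfsg.Agent.H173.RU.Schur

/-!
# Row PSU of S4329: linear automorphisms of order `p`, prime to the characteristic; `n` even
-/

set_option autoImplicit false

namespace Cfsg.Agent.H173.RU

open Cfsg Module Matrix Subgroup
open Cfsg.Agent.LieClassical.HermBasic Cfsg.Agent.LieClassical.HermSiegel
open Cfsg.Agent.ClassicalGeometry.HermOrtho
open Cfsg.Agent.ClassicalGeometry.PSUAutBasic (pr pr_surjective pr_eq_one_iff exists_center_mul)
open Cfsg.Agent.ClassicalGeometry.PSUAutCount (gm gm_mul gm_one gm_mul_inv gm_inv_mul gm_inj herm_gm gm_inv_mulVec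
  gm_mulVec_inv semiConj toAut toAut_pr act_semiConj eq_of_toAut_eq sc gm_sc_mul toAut_sc_mul)
open Cfsg.Agent.CpAutU.Desc (toAut_mul toAut_one)
open Cfsg.Agent.GpUn
open Cfsg.Agent.H568

variable {F : Type*} [Field F] [Fintype F] {q n l k : ℕ}

/-- An element of `PSU` fixed by a linear automorphism lifts to an element commuting with the matrix. -/
theorem exists_com (hF : Fintype.card F = q ^ 2) (hn : 3 ≤ n) (hl : l.Coprime (q + 1)) {A : GU n F q}
    {z : PSU n F q} (hz : z ^ l = 1) (hz1 : z ≠ 1) (hfix : toAut A 1 z = z) :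
    ∃ y : SU n F q, y ^ l = 1 ∧ y ≠ 1 ∧ Com A y := by
  obtain ⟨y, hy, rfl⟩ := exists_lift_elt hF hn hl hz
  refine ⟨y, hy, ?_, comm_of_fix hF hn hl hy hfix⟩
  rintro rfl
  exact hz1 (map_one _)

/-- **The third alternative of `row_of`.** -/
theorem third_of (hF : Fintype.card F = q ^ 2) (hn : 3 ≤ n) (hl : l.Prime) (hcop : l.Coprime (q + 1))
    {y : SU n F q} (hy : y ^ l = 1) (hy1 : y ≠ 1) {p : ℕ} [hp : Fact p.Prime] (hlp : l ≠ p)
    (hP : PCent p (pr n F q y)) {a : MulAut (PSU n F q)}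
    (hfree : ∀ z : PSU n F q, z ^ l = 1 → z ≠ 1 → a z ≠ z) :
    ∃ x : PSU n F q, ¬ p ∣ orderOf x ∧ PCent p x ∧ ∀ g : MulAut (PSU n F q), (g * a * g⁻¹) x ≠ x := by
  have h1 : pr n F q y ^ l = 1 := by rw [← map_pow, hy, map_one]
  have h2 : pr n F q y ≠ 1 := fun h => hy1 (eq_one_of_center hF hn hcop (pr_eq_one_iff.1 h) hy)
  refine ⟨pr n F q y, ?_, hP, ?_⟩
  · rw [@orderOf_eq_prime _ _ _ _ ⟨hl⟩ h1 h2]
    exact fun h => hlp ((Nat.prime_dvd_prime_iff_eq hp.1 hl).1 h).symm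
  · intro g hg
    apply hfree (g⁻¹ (pr n F q y))
    · rw [← map_pow, h1, map_one]
    · intro h3
      apply h2
      have h4 := congrArg g h3
      rwa [MulAut.apply_inv_self, map_one] at h4
    · rw [MulAut.mul_apply, MulAut.mul_apply] at hg
      have h4 := congrArg (g⁻¹ : MulAut (PSU n F q)) hg
      rwa [MulAut.inv_apply_self] at h4

/-- The third alternative for a prime `l` of type `k`. -/
theorem Ty.third (h : Ty q l k) (hF : Fintype.card F = q ^ 2) (hn : 3 ≤ n) (hk : 2 ≤ k) (hkn : k ≤ n) (hnl : n < l)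
    {p : ℕ} [hp : Fact p.Prime] (hp2 : p ≠ 2) (hpF : (p : F) ≠ 0) (hlp : l ≠ p) {a : MulAut (PSU n F q)}
    (hfree : ∀ z : PSU n F q, z ^ l = 1 → z ≠ 1 → a z ≠ z) :
    ∃ x : PSU n F q, ¬ p ∣ orderOf x ∧ PCent p x ∧ ∀ g : MulAut (PSU n F q), (g * a * g⁻¹) x ≠ x := by
  obtain ⟨y, hy⟩ := h.exists_elt hF hk hkn
  have hyl : y ^ l = 1 := by rw [← hy]; exact pow_orderOf_eq_one y
  have hy1 : y ≠ 1 := by
    rintro rfl
    rw [orderOf_one] at hy
    exact h.prime.one_lt.ne hy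
  exact third_of hF hn h.prime (h.coprime_succ (by have := two_le hF; omega) hk) hyl hy1 hlp
    (pcent_pr hp2 hpF h.prime hlp hnl hyl) hfree

/-- The type is unique. -/
theorem Ty.unique {k' : ℕ} (h : Ty q l k) (h' : Ty q l k') : k = k' := by rw [← h.ord, ← h'.ord]

/-- The fixed space of an element of type `n - 1` is a line. -/
theorem Ty.exists_line (h : Ty q l (n - 1)) (hF : Fintype.card F = q ^ 2) (hn : 4 ≤ n) (hodd : Odd (n - 1))
    {y : SU n F q} (hy : y ^ l = 1) (hy1 : y ≠ 1) : ∃ u ∈ fx y, u ≠ 0 ∧ ∀ w ∈ fx y, ∃ c : F, w = c • u := by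
  have h1 := h.finrank_fx hF hodd (by omega) hy hy1
  have h2 : finrank F (fx y) = 1 := by omega
  obtain ⟨u, hu, hu2⟩ := finrank_eq_one_iff'.1 h2
  refine ⟨u, u.2, fun h0 => hu (Subtype.ext h0), fun w hw => ?_⟩
  obtain ⟨c, hc⟩ := hu2 ⟨w, hw⟩
  exact ⟨c, (congrArg Subtype.val hc).symm⟩

/-- Elements of type `n - 1` and `n` do not commute. -/
theorem no_comm_pred {l₁ l₂ : ℕ} (h1 : Ty q l₁ (n - 1)) (h2 : Ty q l₂ n) (hF : Fintype.card F = q ^ 2) (hn : 4 ≤ n)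
    (hodd : Odd (n - 1)) {y₁ y₂ : SU n F q} (hy₁ : y₁ ^ l₁ = 1) (hy₁1 : y₁ ≠ 1) (hy₂ : y₂ ^ l₂ = 1) (hy₂1 : y₂ ≠ 1)
    (hc : ∀ v, act y₁ (act y₂ v) = act y₂ (act y₁ v)) : False := by
  obtain ⟨u, hu, hu0, hline⟩ := h1.exists_line hF hn hodd hy₁ hy₁1
  obtain ⟨c, hc'⟩ := hline (act y₂ u) (by rw [mem_fx, hc, mem_fx.1 hu])
  exact h2.no_eigen hF (by omega) hy₂ hy₂1 hu0 c hc'

/-- A matrix commuting with elements of type `n - 1` and `n` is scalar. -/
theorem scalar_of_both {l₁ l₂ : ℕ} (h1 : Ty q l₁ (n - 1)) (h2 : Ty q l₂ n) (hF : Fintype.card F = q ^ 2) (hn : 4 ≤ n)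
    (hodd : Odd (n - 1)) {y₁ y₂ : SU n F q} (hy₁ : y₁ ^ l₁ = 1) (hy₁1 : y₁ ≠ 1) (hy₂ : y₂ ^ l₂ = 1) (hy₂1 : y₂ ≠ 1)
    {A : GU n F q} (hA1 : Com A y₁) (hA2 : Com A y₂) : toAut A 1 = 1 := by
  obtain ⟨u, hu, hu0, hline⟩ := h1.exists_line hF hn hodd hy₁ hy₁1
  obtain ⟨c, hc⟩ := hline (gm A *ᵥ u) (hA1.fx_inv u hu)
  have hE : u ∈ eig A c := hc
  rcases h1.irred hF hodd (by omega) hy₁ hy₁1 (eig A c) (hA1.eig_inv c) with h3 | h3
  · exfalso
    obtain ⟨d, hd⟩ := hline (act y₂ u) (h3 (hA2.eig_inv c u hE))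
    exact h2.no_eigen hF (by omega) hy₂ hy₂1 hu0 d hd
  · apply toAut_eq_one_of_scalar (by omega) (c := c)
    intro v
    have hnd := nd_fx hF (natCast_ne_zero (F := F) hF h1.prime h1.not_dvd) hy₁
    obtain ⟨a, ha, b, hb, rfl⟩ := exists_add_perp hF (fx y₁) hnd v
    have h4 : a + b ∈ eig A c := by
      apply Submodule.add_mem _ _ (h3 hb)
      obtain ⟨d, rfl⟩ := hline a ha
      exact Submodule.smul_mem _ _ hE
    exact h4

omit [Fintype F] in
theorem com_comm {g y : SU n F q} {B : GU n F q} (hB : ∀ v, gm B *ᵥ v = act g v) (h : Com B y) (v : Fin n → F) :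
    act g (act y v) = act y (act g v) := by
  rw [← hB, ← hB, h]

/-- **Linear automorphisms, `n` even.** -/
theorem even_case (hF : Fintype.card F = q ^ 2) (hn : Even n) (hn4 : 4 ≤ n) (h42 : ¬ (n = 4 ∧ q = 2)) {p : ℕ}
    [hp : Fact p.Prime] (hp2 : p ≠ 2) (hpF : (p : F) ≠ 0) {A : GU n F q} (ha : orderOf (toAut A 1) = p) :
    ∃ x : PSU n F q, ¬ p ∣ orderOf x ∧ PCent p x ∧ ∀ g : MulAut (PSU n F q), (g * toAut A 1 * g⁻¹) x ≠ x := by
  have hq := two_le hF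
  obtain ⟨r, f, hr, hch, hqr, hf⟩ := exists_prime_pow hF
  have hodd : Odd (n - 1) := by
    obtain ⟨a, ha⟩ := hn
    exact ⟨a - 1, by omega⟩
  obtain ⟨l₁, h1, -, hl1, -⟩ := exists_odd hr hf hqr hodd (by omega) (by omega)
  obtain ⟨l₂, h2, hl2⟩ := exists_even hr hf hqr hn hn4
  have hne : toAut A 1 ≠ 1 := by
    intro h
    rw [h, orderOf_one] at ha
    exact hp.1.one_lt.ne ha
  have hap : toAut A 1 ^ p = 1 := by rw [← ha]; exact pow_orderOf_eq_one _
  have hc1 := h1.coprime_succ (by omega) (by omega)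
  have hc2 := h2.coprime_succ (by omega) (by omega)
  by_cases hp1 : l₁ = p
  · -- `p = l₁`
    subst hp1
    refine h2.third hF (by omega) (by omega) le_rfl hl2 hp2 hpF (fun h => ?_) ?_
    · rw [h] at h2
      have := h1.unique h2
      omega
    · intro z hz hz1 hfix
      obtain ⟨g, B, hg, hBA, hBg, hgA⟩ := exists_su hF (by omega) hc1 hap
      rw [← hBA] at hfix
      obtain ⟨y, hy, hy1, hcom⟩ := exists_com hF (by omega) hc2 hz hz1 hfix
      exact no_comm_pred h1 h2 hF hn4 hodd hg (by rintro rfl; rw [map_one, map_one] at hgA; exact hne hgA) hy hy1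
        (com_comm hBg hcom)
  by_cases hp3 : l₂ = p
  · -- `p = l₂`
    subst hp3
    refine h1.third hF (by omega) (by omega) (by omega) (by omega) hp2 hpF hp1 ?_
    intro z hz hz1 hfix
    obtain ⟨g, B, hg, hBA, hBg, hgA⟩ := exists_su hF (by omega) hc2 hap
    rw [← hBA] at hfix
    obtain ⟨y, hy, hy1, hcom⟩ := exists_com hF (by omega) hc1 hz hz1 hfix
    exact no_comm_pred h1 h2 hF hn4 hodd hy hy1 hg (by rintro rfl; rw [map_one, map_one] at hgA; exact hne hgA)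
      (fun v => (com_comm hBg hcom v).symm)
  · by_cases hfree : ∀ z : PSU n F q, z ^ l₁ = 1 → z ≠ 1 → toAut A 1 z ≠ z
    · exact h1.third hF (by omega) (by omega) (by omega) (by omega) hp2 hpF hp1 hfree
    · push Not at hfree
      obtain ⟨z, hz, hz1, hfix⟩ := hfree
      obtain ⟨y, hy, hy1, hcom⟩ := exists_com hF (by omega) hc1 hz hz1 hfix
      refine h2.third hF (by omega) (by omega) le_rfl hl2 hp2 hpF hp3 ?_
      intro z' hz' hz'1 hfix'
      obtain ⟨y', hy', hy'1, hcom'⟩ := exists_com hF (by omega) hc2 hz' hz'1 hfix'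
      exact hne (scalar_of_both h1 h2 hF hn4 hodd hy hy1 hy' hy'1 hcom hcom')

end Cfsg.Agent.H173.RU
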