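import Cfsg.Agent.H173.RU.Aut

/-!
# Row PSU of S4329: field automorphisms
-/

set_option autoImplicit false

namespace Cfsg.Agent.H173.RU

open Cfsg Module Matrix Subgroup
open Cfsg.Agent.LieClassical.HermBasic Cfsg.Agent.LieClassical.HermSiegel
open Cfsg.Agent.ClassicalGeometry.HermOrtho
open Cfsg.Agent.ClassicalGeometry.PSUAutBasic (pr pr_surjective pr_eq_one_iff exists_center_mul)
open Cfsg.Agent.ClassicalGeometry.PSUAutCount (gm gm_mul gm_one gm_mul_inv gm_inv_mul gm_inj herm_gm gm_inv_mulVec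
  gm_mulVec_inv semiConj toAut toAut_pr act_semiConj eq_of_toAut_eq sc gm_sc_mul toAut_sc_mul)
open Cfsg.Agent.CpAutU.Desc (toAut_mul toAut_one)
open Cfsg.Agent.CpAut.Psl (fixf)
open Cfsg.Agent.GpUn
open Cfsg.Agent.H568

variable {F : Type*} [Field F] [Fintype F] {q n l k : ℕ}

theorem dvd_of_card_SU {E : Type*} [Field E] [Fintype E] {s : ℕ} (hE : Fintype.card E = s ^ 2) (hn : 1 ≤ n)
    (hl : l.Prime) (hls : ¬ l ∣ s) (hd : l ∣ Nat.card (SU n E s)) : ∃ i, i < n ∧ (s : ZMod l) ^ (2 * (i + 1)) = 1 := by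
  have hs := two_le hE
  have h1 := Cfsg.Agent.S0278.result hE n hn
  have h2 : l ∣ s ^ (n * (n - 1) / 2) * ∏ i ∈ Finset.range n, (if Even i then s ^ (i + 1) + 1 else s ^ (i + 1) - 1) := by
    rw [← h1]
    exact Dvd.dvd.mul_left hd _
  rcases (Nat.Prime.dvd_mul hl).1 h2 with h3 | h3
  · exact absurd (hl.dvd_of_dvd_pow h3) hls
  · obtain ⟨i, hi, h4⟩ := (Prime.dvd_finset_prod_iff hl.prime _).1 h3
    refine ⟨i, Finset.mem_range.1 hi, ?_⟩
    rw [mul_comm, pow_mul]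
    by_cases he : Even i
    · rw [if_pos he] at h4
      rw [← ZMod.natCast_eq_zero_iff] at h4
      push_cast at h4
      rw [eq_neg_of_add_eq_zero_left h4]
      ring
    · rw [if_neg he] at h4
      rw [← ZMod.natCast_eq_zero_iff, Nat.cast_sub (Nat.one_le_pow _ _ (by omega))] at h4
      push_cast at h4
      rw [sub_eq_zero.1 h4, one_pow]

/-- **A field automorphism of order `p` fixes no element of order `l`.** -/
theorem Ty.field_free (h : Ty q l k) (hF : Fintype.card F = q ^ 2) (hn : 3 ≤ n) (hk : 2 ≤ k) {r f : ℕ}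
    (hr : r.Prime) (hf : 1 ≤ f) (hq : q = r ^ f) (hord : orderOf (r : ZMod l) = 2 * f * k) {p : ℕ} (hp : p.Prime)
    (hp2 : p ≠ 2) (hpk : n < p * k) {A : GU n F q} {ρ : F ≃+* F} (ha : toAut A ρ ^ p = 1) (hρ : ρ ≠ 1)
    {z : PSU n F q} (hz : z ^ l = 1) (hz1 : z ≠ 1) : toAut A ρ z ≠ z := by
  intro hfix
  have hq2 := two_le hF
  have hodd := hp.odd_of_ne_two hp2
  obtain ⟨hord2, M, hM⟩ := Cfsg.Agent.CpAutU.Desc.exists_conj hF hn hp hp2 ha hρ
  obtain ⟨s, hs2, hs, hqs⟩ := Cfsg.Agent.CpAutU.Fld.exists_s' hF hord2 hodd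
  have hpow : ∀ a ∈ fixf ρ, a ^ q = a ^ s := fun a ha => Cfsg.Agent.CpAutU.Fld.pow_q hodd hs hqs ha
  set w : PSU n F q := (toAut M 1)⁻¹ z with hw
  have hwl : w ^ l = 1 := by rw [hw, ← map_pow, hz, map_one]
  have hw1 : w ≠ 1 := by
    intro h0
    apply hz1
    have h2 := congrArg (toAut M 1) h0
    rw [hw, MulAut.apply_inv_self, map_one] at h2
    exact h2
  have hwf : toAut 1 ρ w = w := by
    rw [hM, MulAut.mul_apply, MulAut.mul_apply, ← hw] at hfix
    have h2 := congrArg ((toAut M 1)⁻¹ : MulAut (PSU n F q)) hfix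
    rw [MulAut.inv_apply_self, ← hw] at h2
    exact h2
  have hcop := h.coprime_succ (by omega) hk
  obtain ⟨y, hy, hyw⟩ := exists_lift_elt hF hn hcop hwl
  rw [← hyw] at hwf hw1
  have h1 : semiConj 1 ρ y = y := by
    refine eq_of_pr_eq hF hn hcop ?_ hy hwf
    rw [← map_pow, hy, map_one]
  obtain ⟨g, hg⟩ := Cfsg.Agent.CpAutU.Fixed.exists_embSU hF hpow h1
  have := Fintype.ofFinite ↥(fixf ρ)
  have hF₀ : Fintype.card ↥(fixf ρ) = s ^ 2 := by rw [← Nat.card_eq_fintype_card, hs]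
  have hgl : g ^ l = 1 := by
    apply Cfsg.Agent.CpAutU.Fixed.embSU_injective hF hpow
    rw [map_pow, hg, hy, map_one]
  have hg1 : g ≠ 1 := by
    rintro rfl
    rw [map_one] at hg
    apply hw1
    rw [← hg, map_one]
  have hgo : orderOf g = l := @orderOf_eq_prime _ _ _ _ ⟨h.prime⟩ hgl hg1
  have hd : l ∣ Nat.card (SU n ↥(fixf ρ) s) := by rw [← hgo]; exact orderOf_dvd_natCard g
  have hls : ¬ l ∣ s := fun hd => h.not_dvd (by rw [hqs]; exact dvd_pow hd hp.ne_zero)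
  obtain ⟨i, hi, h2⟩ := dvd_of_card_SU hF₀ (by omega) h.prime hls hd
  -- `s` is a power of `r`
  obtain ⟨g', hg', hsg⟩ : ∃ g', g' ≤ f ∧ s = r ^ g' := by
    apply (Nat.dvd_prime_pow hr).1
    rw [← hq, hqs]
    exact dvd_pow_self s hp.ne_zero
  have hfg : f = g' * p := by
    apply Nat.pow_right_injective hr.two_le
    show r ^ f = r ^ (g' * p)
    rw [← hq, hqs, hsg, pow_mul]
  have hg0 : g' ≠ 0 := by
    rintro rfl
    rw [pow_zero] at hsg
    omega
  have h3 : orderOf (s : ZMod l) = 2 * (p * k) := by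
    rw [hsg]
    push_cast
    have h4 : 2 * f * k = g' * (2 * (p * k)) := by rw [hfg]; ring
    rw [orderOf_pow_of_dvd hg0 (by rw [hord, h4]; exact Dvd.intro _ rfl), hord, h4,
      Nat.mul_div_cancel_left _ (Nat.pos_of_ne_zero hg0)]
  have h5 := orderOf_dvd_of_pow_eq_one h2
  rw [h3] at h5
  have h6 := Nat.le_of_dvd (by omega) h5
  omega

end Cfsg.Agent.H173.RU
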