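import Cfsg.Agent.H173.RU.Small

/-!
# Row PSU of S4329: `PSU_4(2)` and `PSU_5(2)`
-/

set_option autoImplicit false

namespace Cfsg.Agent.H173.RU

open Cfsg Module Matrix Subgroup
open Cfsg.Agent.LieClassical.HermBasic Cfsg.Agent.LieClassical.HermSiegel
open Cfsg.Agent.ClassicalGeometry.HermOrtho
open Cfsg.Agent.ClassicalGeometry.PSUAutBasic (pr pr_surjective pr_eq_one_iff exists_center_mul)
open Cfsg.Agent.ClassicalGeometry.UnitAutBasic (mem_center_of_scalar)
open Cfsg.Agent.ClassicalGeometry.PSUAutCount (gm gm_mul gm_one gm_mul_inv gm_inv_mul gm_inj herm_gm gm_inv_mulVec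
  gm_mulVec_inv semiConj toAut toAut_pr act_semiConj eq_of_toAut_eq sc gm_sc_mul toAut_sc_mul)
open Cfsg.Agent.CpAutU.Desc (toAut_mul toAut_one)
open Cfsg.Agent.GpUn
open Cfsg.Agent.H568

variable {F : Type*} [Field F] [Fintype F] {n l k : ℕ}

/-- **Linear automorphisms of `PSU_5(2)`.** -/
theorem five_two (hF : Fintype.card F = 2 ^ 2) {p : ℕ} [hp : Fact p.Prime] (hp2 : p ≠ 2)
    (hpF : (p : F) ≠ 0) (hpq : ¬ p ∣ 2) {A : GU 5 F 2} (ha : orderOf (toAut A 1) = p) :
    ((∃ s : PSU 5 F 2, toAut A 1 = MulAut.conj s) ∧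
        ∃ P : Sylow p (PSU 5 F 2), IsCyclic ↥(P : Subgroup (PSU 5 F 2))) ∨
      ∃ x : PSU 5 F 2, ¬ p ∣ orderOf x ∧ PCent p x ∧ ∀ g : MulAut (PSU 5 F 2), (g * toAut A 1 * g⁻¹) x ≠ x := by
  obtain ⟨l, h, -, hl1, -⟩ := exists_odd Nat.prime_two le_rfl (pow_one 2).symm (k := 5) ⟨2, rfl⟩ (by omega) (by omega)
  by_cases hty : Ty 2 p 5
  · exact Or.inl (hty.first hF (by omega) ⟨2, rfl⟩ ha)
  right
  have hlp : l ≠ p := by rintro rfl; exact hty h
  refine h.third hF (by omega) (by omega) le_rfl (by omega) hp2 hpF hlp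
    (h.prime_free hF Nat.prime_five (by omega) hpq ?_ hty ha)
  rintro ⟨rfl, h5⟩
  omega

/-! ### `PSU_4(2)` -/

theorem card_four (hF : Fintype.card F = 2 ^ 2) : Nat.card (Cfsg.SU 4 F 2) = 25920 := by
  have h1 := Cfsg.Agent.S0278.result hF 4 (by omega)
  norm_num [Finset.prod_range_succ, Nat.even_add_one] at h1
  omega

/-- A matrix of order `3` in the third power scalar ... : `A ^ 3` is a scalar `c ≠ 1`, impossible in dimension `4`. -/
theorem four_scalar (hF : Fintype.card F = 2 ^ 2) {A : GU 4 F 2} {c : F} (hc : c ^ 3 = 1)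
    (hA : gm A ^ 3 = c • 1) : c = 1 := by
  by_contra hc1
  have hA9 : A ^ 9 = 1 := by
    apply gm_inj
    rw [gm_pow, show 9 = 3 * 3 by norm_num, pow_mul, hA, smul_pow, hc, one_pow, one_smul, gm_one]
  have hA3 : ∀ (i : ℕ), gm (A ^ (3 * i)) = c ^ i • 1 := by
    intro i
    rw [gm_pow, pow_mul, hA, smul_pow, one_pow]
  have hd := orderOf_dvd_of_semiregular hF A ⊤ (fun _ _ => Submodule.mem_top) (by
    intro j v _ hv0 hfix
    by_cases h3 : 3 ∣ j
    · obtain ⟨i, rfl⟩ := h3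
      rw [hA3, Matrix.smul_mulVec, one_mulVec] at hfix
      have h4 : (c ^ i - 1) • v = 0 := by rw [sub_smul, hfix, one_smul, sub_self]
      rcases smul_eq_zero.1 h4 with h5 | h5
      · apply gm_inj
        rw [hA3, sub_eq_zero.1 h5, one_smul, gm_one]
      · exact absurd h5 hv0
    · exfalso
      have hcop : Nat.Coprime j 9 := by
        have : Nat.Coprime j 3 := Nat.Coprime.symm ((Nat.Prime.coprime_iff_not_dvd Nat.prime_three).2 h3)
        exact this.pow_right 2
      obtain ⟨i, hi⟩ := Nat.exists_mul_mod_eq_one_of_coprime hcop (by norm_num)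
      have h4 : ∀ m : ℕ, gm ((A ^ j) ^ m) *ᵥ v = v := by
        intro m
        induction m with
        | zero => rw [pow_zero, gm_one, one_mulVec]
        | succ m ih => rw [pow_succ, gm_mul, ← mulVec_mulVec, hfix, ih]
      have h5 : (A ^ j) ^ i = A := by
        have h6 : A ^ (j * i) = A ^ 1 := by
          rw [pow_eq_pow_iff_modEq]
          refine Nat.ModEq.of_dvd (orderOf_dvd_of_pow_eq_one hA9) ?_
          exact hi.2
        rw [← pow_mul, h6, pow_one]
      have h6 := h4 i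
      rw [h5] at h6
      have h7 : gm A ^ 3 *ᵥ v = v := by
        rw [pow_succ, pow_succ, pow_one, ← mulVec_mulVec, ← mulVec_mulVec, h6, h6, h6]
      rw [hA, Matrix.smul_mulVec, one_mulVec] at h7
      have h8 : (c - 1) • v = 0 := by rw [sub_smul, h7, one_smul, sub_self]
      rcases smul_eq_zero.1 h8 with h9 | h9
      · exact hc1 (sub_eq_zero.1 h9)
      · exact hv0 h9)
  rw [finrank_top, finrank_fin_fun] at hd
  have h9 := orderOf_dvd_of_pow_eq_one hA9
  have h10 := Nat.dvd_gcd hd h9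
  norm_num at h10
  have h11 : gm A ^ 3 = 1 := by
    rw [← gm_pow, orderOf_dvd_iff_pow_eq_one.1 h10, gm_one]
  apply hc1
  rw [hA] at h11
  have h12 := congrFun (congrFun h11 0) 0
  simpa using h12

/-- An element of type `4` of `SU_4(2)` leaves invariant no nondegenerate proper subspace. -/
theorem Ty.no_nd (h : Ty 2 l 4) (hF : Fintype.card F = 2 ^ 2) {y : SU 4 F 2} (hy : y ^ l = 1) (hy1 : y ≠ 1)
    (E : Submodule F (Fin 4 → F)) (hE : ND 2 E) (hyE : ∀ u ∈ E, act y u ∈ E) (h0 : E ≠ ⊥) (h1 : E ≠ ⊤) : False := by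
  have hfx : fx y = ⊥ := h.fx_eq_bot hF hy hy1
  have hcop := h.coprime_succ (by omega) (by omega)
  have h3 := finrank_perp hF hE
  obtain ⟨g, hg1, hg2⟩ := exists_glue hF hcop hE hy hyE
  have hgE : ∀ (j : ℕ), ∀ u ∈ E, act (g ^ j) u = act (y ^ j) u := by
    intro j
    induction j with
    | zero => intro u _; rw [pow_zero, pow_zero]
    | succ j ih => intro u hu; rw [pow_succ, pow_succ, act_mul, act_mul, hg1 u hu, ih _ (hyE u hu)]
  have hgl : g ^ l = 1 := by
    apply ext_dec hF hE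
    · intro u hu
      rw [hgE l u hu, hy]
    · intro w hw
      rw [act_pow_fix l (hg2 w hw), act_one]
  have hgne : g ≠ 1 := by
    rintro rfl
    apply h0
    rw [Submodule.eq_bot_iff]
    intro u hu
    have h4 := hg1 u hu
    rw [act_one] at h4
    have h5 : u ∈ fx y := h4.symm
    rwa [hfx, Submodule.mem_bot] at h5
  have h4 := h.le_sub hF hgl hgne
  have h5 : hermPerp 2 (E : Set (Fin 4 → F)) ≤ fx g := fun w hw => hg2 w hw
  have h6 := Submodule.finrank_mono h5
  have h7 : finrank F E ≠ 4 := by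
    intro h8
    apply h1
    apply Submodule.eq_top_of_finrank_eq
    rw [h8, finrank_fin_fun]
  omega

theorem four_three (h : Ty 2 l 4) (hF : Fintype.card F = 2 ^ 2) {A : GU 4 F 2} (hA3 : toAut A 1 ^ 3 = 1)
    (hne : toAut A 1 ≠ 1) (z : PSU 4 F 2) (hz : z ^ l = 1) (hz1 : z ≠ 1) : toAut A 1 z ≠ z := by
  intro hfix
  obtain ⟨c, hc, hA⟩ := exists_scalar_pow hF (by omega) hA3
  have hc3 : c ^ 3 = 1 := by rw [pow_succ', hc]
  have hc1 := four_scalar hF hc3 hA
  rw [hc1, one_smul] at hA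
  obtain ⟨y, hy, hy1, hcom⟩ := exists_com hF (by omega) (h.coprime_succ (by omega) (by omega)) hz hz1 hfix
  obtain ⟨d, v, hv, hd⟩ := exists_eigen (V := Fin 4 → F) (Matrix.toLin' (gm A)) (by
    rw [← Matrix.toLin'_pow, hF, show 2 ^ 2 = 3 + 1 by norm_num, pow_succ, hA, one_mul])
  rw [Matrix.toLin'_apply] at hd
  have hAA : ∀ u, gm A *ᵥ (gm A *ᵥ (gm A *ᵥ u)) = u := by
    intro u
    rw [mulVec_mulVec, mulVec_mulVec, show gm A * gm A * gm A = gm A ^ 3 by rw [pow_succ, pow_succ, pow_one],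
      hA, one_mulVec]
  have hd3 : d ^ 3 = 1 := by
    have h1 := hAA v
    rw [hd, mulVec_smul, hd, mulVec_smul, mulVec_smul, hd, smul_smul, smul_smul] at h1
    have h2 : (d ^ 3 - 1) • v = 0 := by
      rw [sub_smul, one_smul, sub_eq_zero, show d ^ 3 = d * d * d by ring]
      exact h1
    rcases smul_eq_zero.1 h2 with h3 | h3
    · exact sub_eq_zero.1 h3
    · exact absurd h3 hv
  have hd0 : d ≠ 0 := by
    rintro rfl
    norm_num at hd3
  refine h.no_nd hF hy hy1 (eig A d) ?_ (hcom.eig_inv d) ?_ ?_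
  · -- nondegenerate
    intro u hu hperp
    apply herm_nondeg hF
    intro x
    rw [mem_eig] at hu
    have h4 : ∀ w, hermForm 4 F 2 u (d ^ 2 • gm A *ᵥ w) = hermForm 4 F 2 u w := by
      intro w
      have h5 := herm_gm A u w
      rw [hu, herm_smul_left] at h5
      rw [herm_smul_right, ← h5, show (d ^ 2) ^ 2 = d ^ 3 * d by ring, hd3, one_mul]
    have h6 : x + (d ^ 2 • gm A *ᵥ x + d ^ 2 • gm A *ᵥ (d ^ 2 • gm A *ᵥ x)) ∈ eig A d := by
      rw [mem_eig, mulVec_add, mulVec_add, mulVec_smul, mulVec_smul, mulVec_smul, hAA]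
      simp only [smul_add, smul_smul]
      rw [show d * (d ^ 2 * d ^ 2) = d ^ 2 * d ^ 3 by ring, show d * d ^ 2 = 1 by rw [← hd3]; ring,
        show d ^ 2 * d ^ 2 = d * (d ^ 3) by ring, hd3, mul_one, mul_one, one_smul]
      abel
    have h7 := hperp _ h6
    rw [herm_add_right hF, herm_add_right hF, h4, h4, h4] at h7
    have h8 : (3 : F) * hermForm 4 F 2 u x = 0 := by rw [← h7]; ring
    have h9 : (3 : F) ≠ 0 := by
      have := natCast_ne_zero (F := F) hF Nat.prime_three (by norm_num)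
      exact_mod_cast this
    rcases mul_eq_zero.1 h8 with h10 | h10
    · exact absurd h10 h9
    · exact h10
  · intro h0
    apply hv
    have h2 : v ∈ eig A d := hd
    rwa [h0, Submodule.mem_bot] at h2
  · intro h0
    apply hne
    apply toAut_eq_one_of_scalar (by omega) (c := d)
    intro w
    have h2 : w ∈ eig A d := by rw [h0]; trivial
    exact h2

/-- **Linear automorphisms of `PSU_4(2)`.** -/
theorem four_two (hF : Fintype.card F = 2 ^ 2) {p : ℕ} [hp : Fact p.Prime] (hp2 : p ≠ 2)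
    (hpF : (p : F) ≠ 0) {A : GU 4 F 2} (ha : orderOf (toAut A 1) = p) :
    ((∃ s : PSU 4 F 2, toAut A 1 = MulAut.conj s) ∧
        ∃ P : Sylow p (PSU 4 F 2), IsCyclic ↥(P : Subgroup (PSU 4 F 2))) ∨
      ∃ x : PSU 4 F 2, ¬ p ∣ orderOf x ∧ PCent p x ∧ ∀ g : MulAut (PSU 4 F 2), (g * toAut A 1 * g⁻¹) x ≠ x := by
  have hne : toAut A 1 ≠ 1 := by
    intro h
    rw [h, orderOf_one] at ha
    exact hp.1.one_lt.ne ha
  have hap : toAut A 1 ^ p = 1 := by rw [← ha]; exact pow_orderOf_eq_one _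
  by_cases hp3 : p = 3
  · subst hp3
    right
    obtain ⟨l, h, hl⟩ := exists_even Nat.prime_two le_rfl (pow_one 2).symm (n := 4) ⟨2, rfl⟩ le_rfl
    exact h.third hF (by omega) (by omega) le_rfl hl hp2 hpF (by omega) (four_three h hF hap hne)
  · left
    have hcop : p.Coprime (2 + 1) := (Nat.coprime_primes hp.1 Nat.prime_three).2 hp3
    obtain ⟨g, B, hg, hBA, hBg, hgA⟩ := exists_su hF (by omega) hcop hap
    refine ⟨⟨_, hgA⟩, ?_⟩
    have hg1 : g ≠ 1 := by
      rintro rfl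
      rw [map_one, map_one] at hgA
      exact hne hgA
    have hd : p ∣ 25920 := by
      rw [← card_four hF, ← orderOf_eq_prime hg hg1]
      exact orderOf_dvd_natCard g
    have hp5 : p = 5 := by
      rw [show 25920 = 2 ^ 6 * 3 ^ 4 * 5 by norm_num] at hd
      rcases (Nat.Prime.dvd_mul hp.1).1 hd with h1 | h1
      · rcases (Nat.Prime.dvd_mul hp.1).1 h1 with h2 | h2
        · exact absurd ((Nat.prime_dvd_prime_iff_eq hp.1 Nat.prime_two).1 (hp.1.dvd_of_dvd_pow h2)) hp2
        · exact absurd ((Nat.prime_dvd_prime_iff_eq hp.1 Nat.prime_three).1 (hp.1.dvd_of_dvd_pow h2)) hp3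
      · exact (Nat.prime_dvd_prime_iff_eq hp.1 Nat.prime_five).1 h1
    subst hp5
    obtain ⟨P⟩ : Nonempty (Sylow 5 (PSU 4 F 2)) := inferInstance
    refine ⟨P, ?_⟩
    obtain ⟨i, hi⟩ := (IsPGroup.iff_card).1 P.isPGroup'
    have h1 : Nat.card (P : Subgroup (PSU 4 F 2)) ∣ 25920 := by
      rw [← card_four hF]
      exact (Subgroup.card_subgroup_dvd_card _).trans (Subgroup.card_dvd_of_surjective (pr 4 F 2) pr_surjective)
    rw [hi] at h1
    have h2 : i < 2 := by
      by_contra h3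
      have h4 : 5 ^ 2 ∣ 25920 := (pow_dvd_pow 5 (by omega)).trans h1
      norm_num at h4
    interval_cases i
    · have : Subsingleton (P : Subgroup (PSU 4 F 2)) := (Finite.card_le_one_iff_subsingleton).1 (by rw [hi]; norm_num)
      exact isCyclic_of_subsingleton
    · have : Fact (Nat.Prime 5) := ⟨Nat.prime_five⟩
      exact isCyclic_of_prime_card (p := 5) (by rw [hi, pow_one])

end Cfsg.Agent.H173.RU
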