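import Cfsg.Agent.H173.RU.Elem
import Cfsg.Agent.H568.RowTools
import Cfsg.Agent.H568.LinP

/-!
# Row PSU of S4329: lifting `p`-subgroups, `PCent` and `NoNorm` for elements of `PSU n F q`
-/

set_option autoImplicit false

namespace Cfsg.Agent.H173.RU

open Cfsg Module Matrix Subgroup
open Cfsg.Agent.LieClassical.HermBasic Cfsg.Agent.LieClassical.HermSiegel
open Cfsg.Agent.ClassicalGeometry.HermOrtho
open Cfsg.Agent.ClassicalGeometry.PSUAutBasic (pr pr_surjective pr_eq_one_iff)
open Cfsg.Agent.GpUn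
open Cfsg.Agent.H568

/-- Lifting a `p`-subgroup through a central extension, compatibly with normalisers. -/
theorem exists_lift_pgroup {Γ S : Type*} [Group Γ] [Group S] [Finite Γ] (π : Γ →* S) (hπ : Function.Surjective π)
    (hk : π.ker ≤ center Γ) {p : ℕ} [hp : Fact p.Prime] {Q : Subgroup S} (hQ : IsPGroup p Q) :
    ∃ P : Subgroup Γ, IsPGroup p P ∧ P.map π = Q ∧
      ∀ x : Γ, π x ∈ normalizer (Q : Set S) → x ∈ normalizer (P : Set Γ) := by
  classical
  have hmapD : (Q.comap π).map π = Q := Subgroup.map_comap_eq_self_of_surjective hπ Q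
  obtain ⟨P⟩ : Nonempty (Sylow p ↥(Q.comap π)) := inferInstance
  -- the image of `P` is `Q`
  let φ : ↥(Q.comap π) →* ↥Q := (π.comp (Q.comap π).subtype).codRestrict Q (fun x => x.2)
  have hφ : Function.Surjective φ := by
    rintro ⟨y, hy⟩
    obtain ⟨x, rfl⟩ := hπ y
    exact ⟨⟨x, hy⟩, rfl⟩
  have htop : (P : Subgroup ↥(Q.comap π)).map φ = ⊤ := by
    rw [← Subgroup.index_eq_one]
    have h1 : ((P : Subgroup ↥(Q.comap π)).map φ).index ∣ (P : Subgroup ↥(Q.comap π)).index :=
      Subgroup.index_map_dvd _ hφ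
    have h2 : ¬ p ∣ ((P : Subgroup ↥(Q.comap π)).map φ).index := fun h => P.not_dvd_index (h.trans h1)
    have hQf : Finite ↥Q := Finite.of_surjective φ hφ
    obtain ⟨j, hj⟩ := hQ.index ((P : Subgroup ↥(Q.comap π)).map φ)
    rcases Nat.eq_zero_or_pos j with rfl | hj0
    · rw [hj, pow_zero]
    · exact absurd (by rw [hj]; exact dvd_pow_self p hj0.ne') h2
  -- every element of `D` is the product of an element of `P` and a central element
  have hdec : ∀ d : ↥(Q.comap π), ∃ a ∈ (P : Subgroup ↥(Q.comap π)), ∃ z : Γ, z ∈ center Γ ∧ (d : Γ) = (a : Γ) * z := by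
    intro d
    have h1 : φ d ∈ (P : Subgroup ↥(Q.comap π)).map φ := by rw [htop]; exact mem_top _
    obtain ⟨a, ha, had⟩ := h1
    refine ⟨a, ha, (a : Γ)⁻¹ * d, hk ?_, by rw [mul_inv_cancel_left]⟩
    rw [MonoidHom.mem_ker, map_mul, map_inv, inv_mul_eq_one]
    exact congrArg Subtype.val had
  have hnor : (P : Subgroup ↥(Q.comap π)).Normal := by
    refine ⟨fun x hx d => ?_⟩
    obtain ⟨a, ha, z, hz, hd⟩ := hdec d
    have h1 : d * x * d⁻¹ = a * x * a⁻¹ := by
      apply Subtype.ext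
      rw [Subgroup.coe_mul, Subgroup.coe_mul, Subgroup.coe_inv, Subgroup.coe_mul, Subgroup.coe_mul,
        Subgroup.coe_inv, hd, _root_.mul_inv_rev]
      have h2 : z * (x : Γ) = x * z := ((mem_center_iff.1 hz) (x : Γ)).symm
      rw [mul_assoc (a : Γ) z, h2]
      group
    rw [h1]
    exact mul_mem (mul_mem ha hx) (inv_mem ha)
  have hall : ∀ x : ↥(Q.comap π), (∃ j : ℕ, x ^ p ^ j = 1) → x ∈ (P : Subgroup ↥(Q.comap π)) := by
    rintro x ⟨j, hj⟩
    have hz : IsPGroup p ↥(zpowers x) := by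
      rw [IsPGroup.iff_card]
      rw [Nat.card_zpowers]
      obtain ⟨i, -, hi⟩ := (Nat.dvd_prime_pow hp.1).1 (orderOf_dvd_of_pow_eq_one hj)
      exact ⟨i, hi⟩
    have h1 := IsPGroup.inf_normalizer_sylow hz P
    have h2 : x ∈ zpowers x ⊓ normalizer ((P : Subgroup ↥(Q.comap π)) : Set ↥(Q.comap π)) :=
      ⟨mem_zpowers x, by rw [normalizer_eq_top_iff.2 hnor]; exact mem_top x⟩
    have h3 : x ∈ zpowers x ⊓ (P : Subgroup ↥(Q.comap π)) := h1 ▸ h2
    exact h3.2
  refine ⟨(P : Subgroup ↥(Q.comap π)).map (Q.comap π).subtype, P.isPGroup'.map _, ?_, ?_⟩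
  · ext y
    constructor
    · rintro ⟨_, ⟨a, -, rfl⟩, rfl⟩
      exact a.2
    · intro hy
      have h1 : (⟨y, hy⟩ : Q) ∈ (P : Subgroup ↥(Q.comap π)).map φ := by rw [htop]; exact mem_top _
      obtain ⟨a, ha, hay⟩ := h1
      exact ⟨a, ⟨a, ha, rfl⟩, congrArg Subtype.val hay⟩
  · intro x hx
    have key : ∀ w : Γ, π w ∈ normalizer (Q : Set S) → ∀ y ∈ (P : Subgroup ↥(Q.comap π)).map (Q.comap π).subtype,
        w * y * w⁻¹ ∈ (P : Subgroup ↥(Q.comap π)).map (Q.comap π).subtype := by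
      rintro w hw _ ⟨a, ha, rfl⟩
      have hmem : w * (a : Γ) * w⁻¹ ∈ Q.comap π := by
        rw [mem_comap, map_mul, map_mul, map_inv]
        exact (mem_normalizer_iff.1 hw _).1 a.2
      refine ⟨⟨_, hmem⟩, hall _ ?_, rfl⟩
      obtain ⟨j, hj⟩ := P.isPGroup' ⟨a, ha⟩
      refine ⟨j, ?_⟩
      apply Subtype.ext
      have h1 : (a : Γ) ^ p ^ j = 1 := by
        have := congrArg (fun t : ↥(P : Subgroup ↥(Q.comap π)) => ((t : ↥(Q.comap π)) : Γ)) hj
        simpa using this
      rw [Subgroup.coe_pow, conj_pow, h1]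
      simp
    rw [mem_normalizer_iff]
    intro y
    refine ⟨key x hx y, fun h => ?_⟩
    have h1 := key x⁻¹ (by rw [map_inv]; exact inv_mem hx) _ h
    have h2 : x⁻¹ * (x * y * x⁻¹) * x⁻¹⁻¹ = y := by group
    rwa [h2] at h1

variable {F : Type*} [Field F] [Fintype F] {q n l k : ℕ}

/-- the inclusion -/
def incGL (n : ℕ) (F : Type*) [Field F] (q : ℕ) : SU n F q →* GL (Fin n) F :=
  Matrix.SpecialLinearGroup.toGL.comp (SU n F q).subtype

omit [Fintype F] in
theorem incGL_injective : Function.Injective (incGL n F q) :=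
  Matrix.SpecialLinearGroup.toGL_injective.comp Subtype.val_injective

omit [Fintype F] in
theorem ker_pr : (pr n F q).ker ≤ center (SU n F q) := fun _ hg => pr_eq_one_iff.1 hg

/-- **`PCent`** -/
theorem pcent_pr {p : ℕ} [hp : Fact p.Prime] (hp2 : p ≠ 2) (hpF : (p : F) ≠ 0) (hl : l.Prime) (hlp : l ≠ p)
    (hn : n < l) {y : SU n F q} (hy : y ^ l = 1) : PCent p (pr n F q y) := by
  intro Q hQ hx
  obtain ⟨P, hP, hPQ, hPn⟩ := exists_lift_pgroup (pr n F q) pr_surjective ker_pr hQ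
  have h1 := linP (incGL n F q) hp.1 hp2 hl hlp hpF P hP (fun z _ hz => incGL_injective (by rw [hz, map_one])) y
    (hPn y hx) (fun z _ => by rw [hy, one_mul, mul_one]) (by rwa [Fintype.card_fin])
  intro z hz
  rw [← hPQ] at hz
  obtain ⟨w, hw, rfl⟩ := hz
  rw [← map_mul, h1 w hw, map_mul]

/-- Fixed vectors of `p`-groups in characteristic `p`. -/
theorem exists_fixed (hF : Fintype.card F = q ^ 2) {p : ℕ} [hp : Fact p.Prime] [CharP F p]
    (P : Subgroup (SU n F q)) (hP : IsPGroup p P)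
    (X : Submodule F (Fin n → F)) (hX : ∀ g ∈ P, ∀ u ∈ X, act g u ∈ X) (h0 : X ≠ ⊥) :
    ∃ v ∈ X, v ≠ 0 ∧ ∀ g ∈ P, act g v = v := by
  classical
  let act' : MulAction ↥P ↥X :=
    { smul := fun g u => ⟨act (g : SU n F q) u, hX g g.2 u u.2⟩
      one_smul := fun u => Subtype.ext (act_one (u : Fin n → F))
      mul_smul := fun g g' u => Subtype.ext (act_mul (g : SU n F q) (g' : SU n F q) (u : Fin n → F)) }
  have h1 := hP.card_modEq_card_fixedPoints ↥X
  have h2 : p ∣ Nat.card X := by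
    have := Fintype.ofFinite X
    rw [Nat.card_eq_fintype_card, Module.card_eq_pow_finrank (K := F)]
    obtain ⟨p', j, hp', hch, hq, hj⟩ := exists_prime_pow hF
    have h3 : p' = p := CharP.eq F hch ‹CharP F p›
    rw [hF, hq, h3]
    have h4 : finrank F X ≠ 0 := fun h => h0 (Submodule.finrank_eq_zero.1 h)
    exact dvd_pow (dvd_pow (dvd_pow_self p hj.ne') two_ne_zero) h4
  have h3 : p ∣ Nat.card (MulAction.fixedPoints ↥P ↥X) := (Nat.modEq_zero_iff_dvd.1 (h1.symm.trans (Nat.modEq_zero_iff_dvd.2 h2)))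
  have h4 : 1 < Nat.card (MulAction.fixedPoints ↥P ↥X) := by
    have h5 : 0 < Nat.card (MulAction.fixedPoints ↥P ↥X) := by
      apply Nat.card_pos_iff.2
      refine ⟨⟨⟨0, fun g => Subtype.ext (act_zero (g : SU n F q))⟩⟩, inferInstance⟩
    exact lt_of_lt_of_le hp.1.one_lt (Nat.le_of_dvd h5 h3)
  have h5 : ∃ w : MulAction.fixedPoints ↥P ↥X, (w : ↥X) ≠ 0 := by
    by_contra hcon
    push Not at hcon
    have h6 : Subsingleton (MulAction.fixedPoints ↥P ↥X) := ⟨fun a b => Subtype.ext ((hcon a).trans (hcon b).symm)⟩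
    have h7 := Finite.card_le_one_iff_subsingleton.2 h6
    omega
  obtain ⟨w, hw⟩ := h5
  refine ⟨(w : ↥X), (w : ↥X).2, fun h => hw (Subtype.ext h), fun g hg => ?_⟩
  exact congrArg Subtype.val (w.2 ⟨g, hg⟩)

/-- **`NoNorm`** in the defining characteristic. -/
theorem Ty.noNorm (h : Ty q l k) (hF : Fintype.card F = q ^ 2) (hk : Odd k) (hn : n < 2 * k) (hkn : n ≤ k + 1)
    {y : SU n F q} (hy : y ^ l = 1) (hy1 : y ≠ 1) {p : ℕ} [hp : Fact p.Prime] [CharP F p] :
    NoNorm p (pr n F q y) := by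
  intro Q hQ hx
  obtain ⟨P, hP, hPQ, hPn⟩ := exists_lift_pgroup (pr n F q) pr_surjective ker_pr hQ
  have hyP := hPn y hx
  have hl0 := natCast_ne_zero (F := F) hF h.prime h.not_dvd
  have hnd := nd_fx hF hl0 hy
  have hfin := h.finrank_fx hF hk hn hy hy1
  have hperp := finrank_perp hF hnd
  set W := hermPerp q ((fx y : Submodule F (Fin n → F)) : Set (Fin n → F)) with hW
  -- the fixed space of `P`
  let X : Submodule F (Fin n → F) :=
    { carrier := {v | ∀ g ∈ P, act g v = v}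
      add_mem' := fun {u v} hu hv g hg => by rw [act_add, hu g hg, hv g hg]
      zero_mem' := fun g _ => act_zero g
      smul_mem' := fun c v hv g hg => by rw [act_smul, hv g hg] }
  have hXmem : ∀ v, v ∈ X ↔ ∀ g ∈ P, act g v = v := fun v => Iff.rfl
  have hXinv : ∀ u ∈ X, act y u ∈ X := by
    intro u hu g hg
    have h1 : y⁻¹ * g * y ∈ P := by
      have h2 := (mem_normalizer_iff.1 (inv_mem hyP) g).1 hg
      rwa [inv_inv] at h2
    have h2 := hu _ h1
    have h3 : g * y = y * (y⁻¹ * g * y) := by group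
    rw [← act_mul, h3, act_mul, h2]
  have hX0 : ∀ Y : Submodule F (Fin n → F), (∀ g ∈ P, ∀ u ∈ Y, act g u ∈ Y) → Y ≠ ⊥ → X ⊓ Y ≠ ⊥ := by
    intro Y hY hY0 h0
    obtain ⟨v, hv, hv0, hvP⟩ := exists_fixed hF P hP Y hY hY0
    apply hv0
    have h1 : v ∈ X ⊓ Y := ⟨hvP, hv⟩
    rwa [h0, Submodule.mem_bot] at h1
  have hpos := h.pos
  have hXperp : ∀ Y : Submodule F (Fin n → F), Y ≤ X → ∀ g ∈ P, ∀ u ∈ hermPerp q (Y : Set (Fin n → F)),
      act g u ∈ hermPerp q (Y : Set (Fin n → F)) := by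
    intro Y hY g hg u hu
    apply act_perp _ hu
    intro w hw
    rw [hY hw g⁻¹ (inv_mem hg)]
    exact hw
  have hWX : W ≤ X := by
    rcases h.irred hF hk hn hy hy1 X hXinv with h1 | h1
    · exfalso
      have hXne : X ≠ ⊥ := by
        have h2 := hX0 ⊤ (fun _ _ _ _ => Submodule.mem_top) (by
          intro h3
          have h4 : finrank F (⊤ : Submodule F (Fin n → F)) = 0 := by rw [h3]; exact finrank_bot F _
          rw [finrank_top, finrank_fin_fun] at h4
          omega)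
        rwa [inf_top_eq] at h2
      have h2 : X = fx y := by
        apply Submodule.eq_of_le_of_finrank_le h1
        have h3 : finrank F X ≠ 0 := fun h4 => hXne (Submodule.finrank_eq_zero.1 h4)
        omega
      have h3 := hX0 W (by
        rw [hW, ← h2]
        exact hXperp X le_rfl) (by
        intro h4
        have h5 : finrank F W = 0 := by rw [h4]; exact finrank_bot F _
        omega)
      apply h3
      rw [Submodule.eq_bot_iff]
      rintro v ⟨h4, h5⟩
      rw [h2] at h4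
      exact hnd v h4 h5
    · exact h1
  have htop : X = ⊤ := by
    by_contra hne
    have hfx : fx y ≠ ⊥ := by
      intro h0
      apply hne
      rw [eq_top_iff]
      refine le_trans ?_ hWX
      intro v _ w hw
      have h1 : w ∈ fx y := hw
      rw [h0, Submodule.mem_bot] at h1
      rw [h1, herm_zero_right hF]
    have hfxinv : ∀ g ∈ P, ∀ u ∈ fx y, act g u ∈ fx y := by
      have h1 := hXperp W hWX
      rw [hW, perp_perp hF hnd] at h1
      exact h1
    have h1 := hX0 (fx y) hfxinv hfx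
    have h2 : fx y ≤ X := by
      have h3 : X ⊓ fx y = fx y := by
        apply Submodule.eq_of_le_of_finrank_le inf_le_right
        have h4 : finrank F ↥(X ⊓ fx y) ≠ 0 := fun h5 => h1 (Submodule.finrank_eq_zero.1 h5)
        omega
      rw [← h3]
      exact inf_le_left
    apply hne
    rw [eq_top_iff]
    intro v _
    obtain ⟨a, ha, b, hb, rfl⟩ := exists_add_perp hF (fx y) hnd v
    exact X.add_mem (h2 ha) (hWX hb)
  rw [eq_bot_iff, ← hPQ]
  rintro _ ⟨g, hg, rfl⟩
  have h1 : g = 1 := by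
    apply eq_one_of_top
    intro w
    have h2 : w ∈ X := by rw [htop]; trivial
    exact h2 g hg
  rw [h1, map_one]
  exact one_mem _

end Cfsg.Agent.H173.RU
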