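import Cfsg.Agent.H173.RU.FourTwo
import Cfsg.Agent.H173.RU.Fld
import Cfsg.Agent.S0283
import Cfsg.Agent.CpAut.Fix

/-!
# Row PSU of S4329
-/

set_option autoImplicit false

namespace Cfsg.Agent.H173.RU

open Cfsg Module Matrix Subgroup
open Cfsg.Agent.LieClassical.HermBasic Cfsg.Agent.LieClassical.HermSiegel
open Cfsg.Agent.ClassicalGeometry.HermOrtho
open Cfsg.Agent.ClassicalGeometry.PSUAutBasic (pr pr_surjective pr_eq_one_iff exists_center_mul)
open Cfsg.Agent.ClassicalGeometry.PSUAutCount (gm toAut)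
open Cfsg.Agent.GpUn
open Cfsg.Agent.H568

variable {F : Type*} [Field F] [Fintype F] {q n : ℕ}

/-- The order of a field automorphism. -/
theorem dvd_of_field (hF : Fintype.card F = q ^ 2) (hn : 3 ≤ n) {r f : ℕ} (hr : r.Prime) (hq : q = r ^ f) {p : ℕ}
    (hp : p.Prime) (hp2 : p ≠ 2) {A : GU n F q} {ρ : F ≃+* F} (ha : toAut A ρ ^ p = 1) (hρ : ρ ≠ 1) :
    p ∣ f ∧ 8 ≤ q := by
  obtain ⟨hord2, M, hM⟩ := Cfsg.Agent.CpAutU.Desc.exists_conj hF hn hp hp2 ha hρ
  obtain ⟨s, hs2, hs, hqs⟩ := Cfsg.Agent.CpAutU.Fld.exists_s' hF hord2 (hp.odd_of_ne_two hp2)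
  obtain ⟨g', hg', hsg⟩ : ∃ g', g' ≤ f ∧ s = r ^ g' := by
    apply (Nat.dvd_prime_pow hr).1
    rw [← hq, hqs]
    exact dvd_pow_self s hp.ne_zero
  have hfg : f = g' * p := by
    apply Nat.pow_right_injective hr.two_le
    show r ^ f = r ^ (g' * p)
    rw [← hq, hqs, hsg, pow_mul]
  refine ⟨hfg ▸ Dvd.intro_left _ rfl, ?_⟩
  have hp3 : 3 ≤ p := by have := hp.two_le; omega
  calc 8 = 2 ^ 3 := by norm_num
    _ ≤ s ^ 3 := Nat.pow_le_pow_left hs2 3
    _ ≤ s ^ p := Nat.pow_le_pow_right (by omega) hp3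
    _ = q := hqs.symm

/-- An odd type `k ∈ {n, n - 1}`. -/
theorem exists_k (hn : 3 ≤ n) : ∃ k, Odd k ∧ 3 ≤ k ∧ k ≤ n ∧ n ≤ k + 1 := by
  rcases Nat.even_or_odd n with h | h
  · obtain ⟨a, ha⟩ := h
    exact ⟨n - 1, ⟨a - 1, by omega⟩, by omega, by omega, by omega⟩
  · exact ⟨n, h, hn, le_rfl, by omega⟩

/-- **The row `PSU_n(q)`.** -/
theorem row_PSU (hF : Fintype.card F = q ^ 2) (hn : 3 ≤ n) (h32 : ¬ (n = 3 ∧ q = 2)) {p : ℕ} [hp : Fact p.Prime]
    (hp2 : p ≠ 2) : Row p (PSU n F q) := by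
  have hq := two_le hF
  obtain ⟨r, f, hr, hch, hqr, hf⟩ := exists_prime_pow hF
  have hrF := Fact.mk hr
  have hs := Cfsg.Agent.S0283.result hF n hn h32
  have hrq : r ∣ q := by rw [hqr]; exact dvd_pow_self r hf.ne'
  have hpr : p ≠ r → ¬ p ∣ q := by
    intro h1 h2
    rw [hqr] at h2
    exact h1 ((Nat.prime_dvd_prime_iff_eq hp.1 hr).1 (hp.1.dvd_of_dvd_pow h2))
  refine row_of (Cfsg.Agent.CpAut.Fix.not_comm_quot (H := SU n F q)) ?_
  intro a ha
  have hap : a ^ p = 1 := by rw [← ha]; exact pow_orderOf_eq_one _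
  obtain ⟨A, ρ, rfl⟩ := Cfsg.Agent.ClassicalGeometry.PSUAutMain.exists_toAut hF hn h32 a
  obtain ⟨k, hk, hk3, hkn, hnk⟩ := exists_k hn
  by_cases hρ : ρ = 1
  · subst hρ
    by_cases hpr' : p = r
    · -- the defining characteristic
      subst hpr'
      right; left
      have hq3 : q ≠ 2 := by
        rintro rfl
        exact hp2 ((Nat.prime_dvd_prime_iff_eq hp.1 Nat.prime_two).1 hrq)
      obtain ⟨l, h, -, hl1, -⟩ := exists_odd hr hf hqr hk hk3 (by omega)
      obtain ⟨s, hs⟩ := Cfsg.Agent.CpAutU.Desc.inner_of_lin hF hn (p := p) hap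
      obtain ⟨y, hy⟩ := h.exists_elt (n := n) hF (by omega) hkn
      have hyl : y ^ l = 1 := by rw [← hy]; exact pow_orderOf_eq_one y
      have hy1 : y ≠ 1 := by
        rintro rfl
        rw [orderOf_one] at hy
        exact h.prime.one_lt.ne hy
      exact ⟨⟨s, hs.symm⟩, pr n F q y, h.noNorm hF hk (by omega) hnk hyl hy1⟩
    · -- linear, prime to the characteristic
      have hpq := hpr hpr'
      have hpF := natCast_ne_zero (F := F) hF hp.1 hpq
      rcases Nat.even_or_odd n with hne | hno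
      · by_cases h42 : n = 4 ∧ q = 2
        · obtain ⟨rfl, rfl⟩ := h42
          rcases four_two hF hp2 hpF ha with h | h
          · exact Or.inl h
          · exact Or.inr (Or.inr h)
        · refine Or.inr (Or.inr (even_case hF hne ?_ h42 hp2 hpF ha))
          obtain ⟨b, hb⟩ := hne
          omega
      · by_cases h3 : n = 3
        · subst h3
          rcases three_case hF (by omega) hp2 hpF hpq ha with h | h
          · exact Or.inl h
          · exact Or.inr (Or.inr h)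
        · by_cases h52 : n = 5 ∧ q = 2
          · obtain ⟨rfl, rfl⟩ := h52
            rcases five_two hF hp2 hpF hpq ha with h | h
            · exact Or.inl h
            · exact Or.inr (Or.inr h)
          · refine Or.inr (Or.inr (odd_case hF hno ?_ h52 hp2 hpF ha))
            obtain ⟨b, hb⟩ := hno
            omega
  · -- not linear
    right; right
    obtain ⟨hpf, hq8⟩ := dvd_of_field hF hn hr hqr hp.1 hp2 hap hρ
    obtain ⟨l, h, hord, hl1, hl2⟩ := exists_odd hr hf hqr hk hk3 (by omega)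
    obtain ⟨y, hy⟩ := h.exists_elt (n := n) hF (by omega) hkn
    have hyl : y ^ l = 1 := by rw [← hy]; exact pow_orderOf_eq_one y
    have hy1 : y ≠ 1 := by
      rintro rfl
      rw [orderOf_one] at hy
      exact h.prime.one_lt.ne hy
    have hc := h.coprime_succ (by omega) (by omega)
    have hp3 : 3 ≤ p := by have := hp.1.two_le; omega
    have hpf' := Nat.le_of_dvd hf hpf
    have h5 : p * 3 ≤ 2 * f * k := Nat.mul_le_mul (by omega) hk3
    have h6 : 3 * k ≤ p * k := Nat.mul_le_mul_right _ hp3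
    refine third_of hF hn h.prime hc hyl hy1 (by omega) ?_
      (fun z hz hz1 => h.field_free hF hn (by omega) hr hf hqr hord hp.1 hp2 (by omega) hap hρ hz hz1)
    by_cases hpr' : p = r
    · subst hpr'
      exact (h.noNorm hF hk (by omega) hnk hyl hy1).pcent
    · exact pcent_pr hp2 (natCast_ne_zero (F := F) hF hp.1 (hpr hpr')) h.prime (by omega) (by omega) hyl

/-- **Row PSU of S4329.** -/
theorem row_psu (K : Type*) [Group K] [Finite K] [IsSimpleGroup K] (h : Cfsg.IsPSU K) (p : ℕ) [Fact p.Prime]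
    (hp : p ≠ 2) : Cfsg.Agent.H568.Row p K := by
  obtain ⟨F, _, _, n, q, hF, hn, h32, ⟨e⟩⟩ := h
  exact (row_PSU hF hn h32 hp).congr e.symm

end Cfsg.Agent.H173.RU
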