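import Cfsg.Agent.H173.RU.Even
import Cfsg.Agent.LieExceptional.CyclicSylow

/-!
# Row PSU of S4329: linear automorphisms of order `p`, prime to the characteristic; `n` odd
-/

set_option autoImplicit false

namespace Cfsg.Agent.H173.RU

open Cfsg Module Matrix Subgroup
open Cfsg.Agent.LieClassical.HermBasic Cfsg.Agent.LieClassical.HermSiegel
open Cfsg.Agent.ClassicalGeometry.HermOrtho
open Cfsg.Agent.ClassicalGeometry.PSUAutBasic (pr pr_surjective pr_eq_one_iff exists_center_mul)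
open Cfsg.Agent.ClassicalGeometry.PSUAutCount (gm gm_mul gm_one gm_mul_inv gm_inv_mul gm_inj herm_gm gm_inv_mulVec
  gm_mulVec_inv semiConj toAut toAut_pr act_semiConj eq_of_toAut_eq sc gm_sc_mul toAut_sc_mul)
open Cfsg.Agent.CpAutU.Desc (toAut_mul toAut_one)
open Cfsg.Agent.GpUn
open Cfsg.Agent.H568

section

variable {F : Type*} [Field F] [Fintype F] {q n l k : ℕ}

/-- Elements of type `n - 2` and `n` do not commute. -/
theorem no_comm_two {l₁ l₂ : ℕ} (h1 : Ty q l₁ n) (h2 : Ty q l₂ (n - 2)) (hF : Fintype.card F = q ^ 2) (hn : 5 ≤ n)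
    (hodd : Odd n) {y₁ y₂ : SU n F q} (hy₁ : y₁ ^ l₁ = 1) (hy₁1 : y₁ ≠ 1) (hy₂ : y₂ ^ l₂ = 1) (hy₂1 : y₂ ≠ 1)
    (hc : ∀ v, act y₁ (act y₂ v) = act y₂ (act y₁ v)) : False := by
  have hodd2 : Odd (n - 2) := by
    obtain ⟨a, ha⟩ := hodd
    exact ⟨a - 1, by omega⟩
  have h3 := h2.finrank_fx hF hodd2 (by omega) hy₂ hy₂1
  have h4 := h1.dvd_two_mul hF hy₁ (fx y₂) (fun u hu => by rw [mem_fx] at hu ⊢; rw [← hc, hu])
    (by rw [h1.fx_eq_bot hF hy₁ hy₁1, inf_bot_eq])
  have h5 : finrank F (fx y₂) = 2 := by omega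
  rw [h5] at h4
  have := Nat.le_of_dvd (by norm_num) h4
  omega

/-- **Linear automorphisms, `n ≥ 5` odd.** -/
theorem odd_case (hF : Fintype.card F = q ^ 2) (hn : Odd n) (hn5 : 5 ≤ n) (h52 : ¬ (n = 5 ∧ q = 2)) {p : ℕ}
    [hp : Fact p.Prime] (hp2 : p ≠ 2) (hpF : (p : F) ≠ 0) {A : GU n F q} (ha : orderOf (toAut A 1) = p) :
    ∃ x : PSU n F q, ¬ p ∣ orderOf x ∧ PCent p x ∧ ∀ g : MulAut (PSU n F q), (g * toAut A 1 * g⁻¹) x ≠ x := by
  have hq := two_le hF
  obtain ⟨r, f, hr, hch, hqr, hf⟩ := exists_prime_pow hF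
  have hodd : Odd (n - 2) := by
    obtain ⟨a, ha⟩ := hn
    exact ⟨a - 1, by omega⟩
  obtain ⟨l₁, h1, -, hl1, -⟩ := exists_odd hr hf hqr hn (by omega) (by omega)
  obtain ⟨l₂, h2, -, hl2, -⟩ := exists_odd hr hf hqr hodd (by omega) (by omega)
  have hne : toAut A 1 ≠ 1 := by
    intro h
    rw [h, orderOf_one] at ha
    exact hp.1.one_lt.ne ha
  have hap : toAut A 1 ^ p = 1 := by rw [← ha]; exact pow_orderOf_eq_one _
  have hc1 := h1.coprime_succ (by omega) (by omega)
  have hc2 := h2.coprime_succ (by omega) (by omega)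
  by_cases hp1 : l₁ = p
  · -- `p = l₁`
    subst hp1
    refine h2.third hF (by omega) (by omega) (by omega) (by omega) hp2 hpF (fun h => ?_) ?_
    · rw [h] at h2
      have := h1.unique h2
      omega
    · intro z hz hz1 hfix
      obtain ⟨g, B, hg, hBA, hBg, hgA⟩ := exists_su hF (by omega) hc1 hap
      rw [← hBA] at hfix
      obtain ⟨y, hy, hy1, hcom⟩ := exists_com hF (by omega) hc2 hz hz1 hfix
      exact no_comm_two h1 h2 hF hn5 hn hg (by rintro rfl; rw [map_one, map_one] at hgA; exact hne hgA) hy hy1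
        (com_comm hBg hcom)
  by_cases hp3 : l₂ = p
  · -- `p = l₂`
    subst hp3
    refine h1.third hF (by omega) (by omega) (by omega) (by omega) hp2 hpF hp1 ?_
    intro z hz hz1 hfix
    obtain ⟨g, B, hg, hBA, hBg, hgA⟩ := exists_su hF (by omega) hc2 hap
    rw [← hBA] at hfix
    obtain ⟨y, hy, hy1, hcom⟩ := exists_com hF (by omega) hc1 hz hz1 hfix
    exact no_comm_two h1 h2 hF hn5 hn hy hy1 hg (by rintro rfl; rw [map_one, map_one] at hgA; exact hne hgA)
      (fun v => (com_comm hBg hcom v).symm)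
  · by_cases hfree : ∀ z : PSU n F q, z ^ l₁ = 1 → z ≠ 1 → toAut A 1 z ≠ z
    · exact h1.third hF (by omega) (by omega) (by omega) (by omega) hp2 hpF hp1 hfree
    · push Not at hfree
      obtain ⟨z, hz, hz1, hfix⟩ := hfree
      obtain ⟨y, hy, hy1, hcom⟩ := exists_com hF (by omega) hc1 hz hz1 hfix
      refine h2.third hF (by omega) (by omega) (by omega) (by omega) hp2 hpF hp3 ?_
      intro z' hz' hz'1 hfix'
      obtain ⟨y', hy', hy'1, hcom'⟩ := exists_com hF (by omega) hc2 hz' hz'1 hfix'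
      have h3 := h2.finrank_fx hF hodd (by omega) hy' hy'1
      have h5 : finrank F (fx y') = 2 := by omega
      refine hne (h1.scalar_of_inv hF (by omega) hn hy hy1 hcom (fx y') hcom'.fx_inv ?_)
      rw [h5]
      exact (Nat.coprime_two_right).2 hn

/-! ### `n` an odd prime: one element of type `n` -/

/-- The order of a linear automorphism of order `p ∣ q + 1`, `p ∤ n`, commuting with an irreducible element. -/
theorem dvd_of_dvd_succ (hF : Fintype.card F = q ^ 2) {p : ℕ} (hp : p.Prime) (hpq : p ∣ q + 1) (hpn : ¬ p ∣ n) {m : ℕ}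
    (h1 : m ∣ p * (q + 1)) (h2 : m ∣ (q ^ 2) ^ n - 1) : m ∣ q ^ 2 - 1 := by
  have hq := two_le hF
  have h1' : m ∣ (q ^ 2 - 1) * p := by
    refine h1.trans ?_
    have h3 : q ^ 2 - 1 = (q + 1) * (q - 1) := by
      have := Nat.sq_sub_sq q 1
      simpa using this
    rw [h3]
    exact ⟨q - 1, by ring⟩
  have h4 := geom_sum_mul_of_one_le (x := q ^ 2) (Nat.one_le_pow _ _ (by omega)) n
  have h2' : m ∣ (q ^ 2 - 1) * ∑ i ∈ Finset.range n, (q ^ 2) ^ i := by rwa [mul_comm, h4]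
  have h5 := Nat.dvd_gcd h1' h2'
  rw [Nat.gcd_mul_left] at h5
  have h6 : Nat.gcd p (∑ i ∈ Finset.range n, (q ^ 2) ^ i) = 1 := by
    rw [← Nat.coprime_iff_gcd_eq_one, Nat.Prime.coprime_iff_not_dvd hp]
    intro h7
    apply hpn
    have := Fact.mk hp
    rw [← ZMod.natCast_eq_zero_iff] at h7 ⊢
    have h8 : (q : ZMod p) = -1 := by
      have h9 : ((q + 1 : ℕ) : ZMod p) = 0 := (ZMod.natCast_eq_zero_iff _ _).2 hpq
      push_cast at h9
      exact eq_neg_of_add_eq_zero_left h9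
    push_cast at h7
    rw [h8] at h7
    simpa using h7
  rwa [h6, mul_one] at h5

theorem Ty.exists_of_not_dvd {p : ℕ} (hp : p.Prime) (hpq : ¬ p ∣ q) : ∃ k, Ty q p k := by
  have := Fact.mk hp
  refine ⟨_, hp, rfl, ?_⟩
  have h1 : (-(q : ZMod p)) ≠ 0 := by
    rw [neg_ne_zero]
    intro h0
    exact hpq ((ZMod.natCast_eq_zero_iff _ _).1 h0)
  exact orderOf_pos_iff.2 (isOfFinOrder_iff_pow_eq_one.2 ⟨p - 1, by have := hp.two_le; omega, ZMod.pow_card_sub_one_eq_one h1⟩)

theorem scalar_pow_orderOf (hF : Fintype.card F = q ^ 2) (hn : 3 ≤ n) {p : ℕ} {A : GU n F q}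
    (h : toAut A 1 ^ p = 1) : orderOf A ∣ p * (q + 1) := by
  obtain ⟨c, hc, hA⟩ := exists_scalar_pow hF hn h
  apply orderOf_dvd_of_pow_eq_one
  apply gm_inj
  rw [gm_pow, pow_mul, hA, smul_pow, one_pow, pow_succ', hc, one_smul, gm_one]

/-- **Linear automorphisms, `n` an odd prime, not `p = n ∣ q + 1`**: an element of type `n` is enough. -/
theorem Ty.prime_free (h : Ty q l n) (hF : Fintype.card F = q ^ 2) (hn : n.Prime) (hn3 : 3 ≤ n) {p : ℕ}
    [hp : Fact p.Prime] (hpq : ¬ p ∣ q) (hpn : ¬ (p = n ∧ p ∣ q + 1)) (hty : ¬ Ty q p n) {A : GU n F q}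
    (ha : orderOf (toAut A 1) = p) (z : PSU n F q) (hz : z ^ l = 1) (hz1 : z ≠ 1) : toAut A 1 z ≠ z := by
  intro hfix
  have hq := two_le hF
  have hodd : Odd n := hn.odd_of_ne_two (by omega)
  have hne : toAut A 1 ≠ 1 := by
    intro h
    rw [h, orderOf_one] at ha
    exact hp.1.one_lt.ne ha
  have hap : toAut A 1 ^ p = 1 := by rw [← ha]; exact pow_orderOf_eq_one _
  have hc := h.coprime_succ (by omega) (by omega)
  by_cases h1 : p ∣ q + 1
  · obtain ⟨y, hy, hy1, hcom⟩ := exists_com hF hn3 hc hz hz1 hfix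
    apply hne
    apply h.scalar_of_orderOf hF hn3 hodd hy hy1 hcom
    apply dvd_of_dvd_succ (n := n) hF hp.1 h1 (fun h3 => ?_) (scalar_pow_orderOf hF hn3 hap)
      (h.orderOf_dvd_top hF hn3 hodd hy hy1 hcom)
    exact hpn ⟨(Nat.prime_dvd_prime_iff_eq hp.1 hn).1 h3, h1⟩
  · have hcop : p.Coprime (q + 1) := (Nat.Prime.coprime_iff_not_dvd hp.1).2 h1
    obtain ⟨g, B, hg, hBA, hBg, hgA⟩ := exists_su hF hn3 hcop hap
    rw [← hBA] at hfix hne
    obtain ⟨y, hy, hy1, hcom⟩ := exists_com hF hn3 hc hz hz1 hfix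
    have hg1 : g ≠ 1 := by
      rintro rfl
      rw [map_one, map_one, ← hBA] at hgA
      exact hne hgA
    have hBp : B ^ p = 1 := by
      apply gm_inj
      apply Matrix.ext_of_mulVec_single
      intro i
      have h2 : ∀ (j : ℕ) (v : Fin n → F), gm (B ^ j) *ᵥ v = act (g ^ j) v := by
        intro j
        induction j with
        | zero => intro v; rw [pow_zero, pow_zero, gm_one, one_mulVec, act_one]
        | succ j ih => intro v; rw [pow_succ, pow_succ, gm_mul, ← mulVec_mulVec, hBg, ih, act_mul]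
      rw [h2, hg, act_one, gm_one, one_mulVec]
    have hB1 : B ≠ 1 := by
      rintro rfl
      exact hne toAut_one
    have hBo : orderOf B = p := orderOf_eq_prime hBp hB1
    have h3 := h.orderOf_dvd_top hF hn3 hodd hy hy1 hcom
    obtain ⟨k, hk⟩ := Ty.exists_of_not_dvd hp.1 hpq
    have h4 : k ≤ n := by
      refine hk.le_of_dvd hF (by omega) ?_
      rw [← orderOf_eq_prime hg hg1]
      exact orderOf_dvd_natCard g
    rw [hBo] at h3
    have h5 := (hk.dvd_sq (by omega) n).1 h3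
    -- `k` divides `2`, or `k = n`
    have hkn : k ≠ n := by rintro rfl; exact hty hk
    have h6 : k ∣ 2 := by
      have h7 : Nat.Coprime k n := by
        rw [Nat.coprime_comm, Nat.Prime.coprime_iff_not_dvd hn]
        intro h8
        have := Nat.le_of_dvd hk.pos h8
        omega
      exact h7.dvd_of_dvd_mul_right h5
    apply hne
    apply h.scalar_of_orderOf hF hn3 hodd hy hy1 hcom
    rw [hBo]
    have h7 := (hk.dvd_sq (by omega) 1).2 (by rwa [mul_one])
    rwa [pow_one] at h7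

/-- **The first alternative** -/
theorem Ty.first {F : Type*} [Field F] [Fintype F] {q n : ℕ} {p : ℕ} [hp : Fact p.Prime] (h : Ty q p n)
    (hF : Fintype.card F = q ^ 2) (hn : 3 ≤ n) (hodd : Odd n) {A : GU n F q} (ha : orderOf (toAut A 1) = p) :
    (∃ s : PSU n F q, toAut A 1 = MulAut.conj s) ∧ ∃ P : Sylow p (PSU n F q), IsCyclic ↥(P : Subgroup (PSU n F q)) := by
  have hq := two_le hF
  have hap : toAut A 1 ^ p = 1 := by rw [← ha]; exact pow_orderOf_eq_one _
  have hc := h.coprime_succ (by omega) (by omega)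
  obtain ⟨g, B, hg, hBA, hBg, hgA⟩ := exists_su hF hn hc hap
  refine ⟨⟨_, hgA⟩, ?_⟩
  obtain ⟨P⟩ : Nonempty (Sylow p (PSU n F q)) := inferInstance
  refine ⟨P, ?_⟩
  obtain ⟨Q, hQ, hQP, -⟩ := exists_lift_pgroup (pr n F q) pr_surjective ker_pr P.isPGroup'
  have : NeZero n := ⟨by omega⟩
  have hcyc : IsCyclic Q := by
    refine LieExceptional.CyclicSylow.isCyclic_of_isPGroup_of_hom_GL (F := F) (n := n) (p := p) ?_ ?_ hQ
      ((incGL n F q).comp Q.subtype) (incGL_injective.comp Subtype.val_injective)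
    · rw [Nat.card_eq_fintype_card, hF]
      intro h1
      exact h.not_dvd (hp.1.dvd_of_dvd_pow h1)
    · intro i hi hin h1
      rw [Nat.card_eq_fintype_card, hF, h.dvd_sq (by omega)] at h1
      have h2 : n ∣ i := ((Nat.coprime_two_right).2 hodd).dvd_of_dvd_mul_left h1
      have := Nat.le_of_dvd hi h2
      omega
  rw [← hQP]
  exact isCyclic_of_surjective ((pr n F q).subgroupMap Q) ((pr n F q).subgroupMap_surjective Q)

end

end Cfsg.Agent.H173.RU
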