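import Cfsg.Agent.H173.RU.Aut

/-!
# Row PSU of S4329: linear automorphisms commuting with an irreducible element
-/

set_option autoImplicit false

namespace Cfsg.Agent.H173.RU

open Cfsg Module Matrix Subgroup
open Cfsg.Agent.LieClassical.HermBasic Cfsg.Agent.LieClassical.HermSiegel
open Cfsg.Agent.ClassicalGeometry.HermOrtho
open Cfsg.Agent.ClassicalGeometry.PSUAutBasic (pr pr_surjective pr_eq_one_iff exists_center_mul)
open Cfsg.Agent.ClassicalGeometry.PSUAutCount (gm gm_mul gm_one gm_mul_inv gm_inv_mul gm_inj herm_gm gm_inv_mulVec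
  gm_mulVec_inv semiConj toAut toAut_pr act_semiConj eq_of_toAut_eq sc gm_sc_mul toAut_sc_mul)
open Cfsg.Agent.CpAutU.Desc (toAut_mul toAut_one)
open Cfsg.Agent.GpUn

variable {F : Type*} [Field F] [Fintype F] {q n l k : ℕ}

omit [Fintype F] in
theorem gm_pow (A : GU n F q) (j : ℕ) : gm (A ^ j) = gm A ^ j := by
  induction j with
  | zero => rw [pow_zero, pow_zero, gm_one]
  | succ j ih => rw [pow_succ, pow_succ, gm_mul, ih]

/-- the action of `GU` -/
@[reducible] def actGU (n : ℕ) (F : Type*) [Field F] (q : ℕ) : MulAction (GU n F q) (Fin n → F) where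
  smul A v := gm A *ᵥ v
  one_smul v := by show gm 1 *ᵥ v = v; rw [gm_one, one_mulVec]
  mul_smul A B v := by show gm (A * B) *ᵥ v = gm A *ᵥ (gm B *ᵥ v); rw [gm_mul, mulVec_mulVec]

/-- the matrix `A` commutes with `y` -/
def Com (A : GU n F q) (y : SU n F q) : Prop := ∀ v, gm A *ᵥ act y v = act y (gm A *ᵥ v)

omit [Fintype F] in
theorem Com.pow {A : GU n F q} {y : SU n F q} (h : Com A y) (j : ℕ) : Com (A ^ j) y := by
  induction j with
  | zero => intro v; rw [pow_zero, gm_one, one_mulVec, one_mulVec]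
  | succ j ih => intro v; rw [pow_succ, gm_mul, ← mulVec_mulVec, h, ih, ← mulVec_mulVec]

/-- the eigenspace -/
def eig (A : GU n F q) (c : F) : Submodule F (Fin n → F) where
  carrier := {v | gm A *ᵥ v = c • v}
  add_mem' := fun {u v} hu hv => by
    show gm A *ᵥ (u + v) = c • (u + v)
    rw [mulVec_add, show gm A *ᵥ u = c • u from hu, show gm A *ᵥ v = c • v from hv, smul_add]
  zero_mem' := by show gm A *ᵥ 0 = c • 0; rw [mulVec_zero, smul_zero]
  smul_mem' := fun a v hv => by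
    show gm A *ᵥ (a • v) = c • a • v
    rw [mulVec_smul, show gm A *ᵥ v = c • v from hv, smul_comm]

omit [Fintype F] in
theorem mem_eig {A : GU n F q} {c : F} {v : Fin n → F} : v ∈ eig A c ↔ gm A *ᵥ v = c • v := Iff.rfl

omit [Fintype F] in
theorem Com.eig_inv {A : GU n F q} {y : SU n F q} (h : Com A y) (c : F) : ∀ u ∈ eig A c, act y u ∈ eig A c := by
  intro u hu
  rw [mem_eig] at hu ⊢
  rw [h, hu, act_smul]

omit [Fintype F] in
theorem Com.fx_inv {A : GU n F q} {y : SU n F q} (h : Com A y) : ∀ u ∈ fx y, gm A *ᵥ u ∈ fx y := by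
  intro u hu
  rw [mem_fx] at hu ⊢
  rw [← h, hu]

/-- An element of type `n`, `n` odd, acts irreducibly. -/
theorem Ty.fx_eq_bot (h : Ty q l n) (hF : Fintype.card F = q ^ 2) {y : SU n F q} (hy : y ^ l = 1) (hy1 : y ≠ 1) :
    fx y = ⊥ := by
  have h1 := h.le_sub hF hy hy1
  apply Submodule.finrank_eq_zero.1
  omega

theorem Ty.irred_top (h : Ty q l n) (hF : Fintype.card F = q ^ 2) (hn : 3 ≤ n) (hodd : Odd n) {y : SU n F q}
    (hy : y ^ l = 1) (hy1 : y ≠ 1) (X : Submodule F (Fin n → F)) (hX : ∀ u ∈ X, act y u ∈ X) (hX0 : X ≠ ⊥) :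
    X = ⊤ := by
  have h0 := h.fx_eq_bot hF hy hy1
  rcases h.irred hF hodd (by omega) hy hy1 X hX with h1 | h1
  · rw [h0] at h1
    exact absurd (le_bot_iff.1 h1) hX0
  · rw [eq_top_iff]
    refine le_trans ?_ h1
    intro v _ w hw
    have h2 : w ∈ fx y := hw
    rw [h0, Submodule.mem_bot] at h2
    rw [h2, herm_zero_right hF]

/-- No eigenvectors for a nonscalar matrix commuting with an element of type `n`. -/
theorem Ty.scalar_of_eigen (h : Ty q l n) (hF : Fintype.card F = q ^ 2) (hn : 3 ≤ n) (hodd : Odd n) {y : SU n F q}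
    (hy : y ^ l = 1) (hy1 : y ≠ 1) {A : GU n F q} (hA : Com A y) {c : F} {v : Fin n → F} (hv : v ≠ 0)
    (hAv : gm A *ᵥ v = c • v) : ∀ w, gm A *ᵥ w = c • w := by
  have h1 := h.irred_top hF hn hodd hy hy1 (eig A c) (hA.eig_inv c) (by
    intro h0
    apply hv
    have h2 : v ∈ eig A c := hAv
    rwa [h0, Submodule.mem_bot] at h2)
  intro w
  have h2 : w ∈ eig A c := by rw [h1]; trivial
  exact h2

theorem Ty.free (h : Ty q l n) (hF : Fintype.card F = q ^ 2) (hn : 3 ≤ n) (hodd : Odd n) {y : SU n F q}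
    (hy : y ^ l = 1) (hy1 : y ≠ 1) {A : GU n F q} (hA : Com A y) (j : ℕ) {v : Fin n → F} (hv : v ≠ 0)
    (hAv : gm (A ^ j) *ᵥ v = v) : A ^ j = 1 := by
  have h1 := h.scalar_of_eigen hF hn hodd hy hy1 (hA.pow j) (c := 1) hv (by rw [hAv, one_smul])
  apply gm_inj
  apply Matrix.ext_of_mulVec_single
  intro i
  rw [h1, gm_one, one_mulVec, one_smul]

/-- **The order of a matrix with semiregular action.** -/
theorem orderOf_dvd_of_semiregular (hF : Fintype.card F = q ^ 2) (A : GU n F q) (X : Submodule F (Fin n → F))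
    (hX : ∀ u ∈ X, gm A *ᵥ u ∈ X)
    (hfree : ∀ (j : ℕ) (v : Fin n → F), v ∈ X → v ≠ 0 → gm (A ^ j) *ᵥ v = v → A ^ j = 1) :
    orderOf A ∣ (q ^ 2) ^ finrank F X - 1 := by
  classical
  have h1 := @orderOf_dvd_of_free (GU n F q) _ _ A (Fin n → F) (actGU n F q) {v : Fin n → F | v ∈ X ∧ v ≠ 0} _ (by
    rintro x ⟨hx, hx0⟩
    refine ⟨hX x hx, ?_⟩
    intro h0
    apply hx0
    have h2 := gm_inv_mulVec A x
    have h0 : gm A *ᵥ x = 0 := h0
    rw [h0, mulVec_zero] at h2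
    exact h2.symm) (by
    rintro j x ⟨hx, hx0⟩ hfix
    exact hfree j x hx hx0 hfix)
  have h2 : Nat.card {v : Fin n → F | v ∈ X ∧ v ≠ 0} = (q ^ 2) ^ finrank F X - 1 := by
    have h3 : Nat.card X = (q ^ 2) ^ finrank F X := by
      rw [Nat.card_eq_fintype_card, Module.card_eq_pow_finrank (K := F), hF]
    have h4 : (X : Set (Fin n → F)) = insert 0 {v : Fin n → F | v ∈ X ∧ v ≠ 0} := by
      ext v
      constructor
      · intro hv
        by_cases h0 : v = 0
        · exact Or.inl h0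
        · exact Or.inr ⟨hv, h0⟩
      · rintro (rfl | hv)
        · exact X.zero_mem
        · exact hv.1
    have h5 : (X : Set (Fin n → F)).ncard = {v : Fin n → F | v ∈ X ∧ v ≠ 0}.ncard + 1 := by
      rw [h4, Set.ncard_insert_of_notMem (fun h => h.2 rfl)]
    have h6 : Nat.card X = (X : Set (Fin n → F)).ncard := rfl
    have h7 : Nat.card {v : Fin n → F | v ∈ X ∧ v ≠ 0} = {v : Fin n → F | v ∈ X ∧ v ≠ 0}.ncard := rfl
    omega
  rwa [h2] at h1

/-- **The order of a matrix commuting with an irreducible element.** -/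
theorem Ty.orderOf_dvd (h : Ty q l n) (hF : Fintype.card F = q ^ 2) (hn : 3 ≤ n) (hodd : Odd n) {y : SU n F q}
    (hy : y ^ l = 1) (hy1 : y ≠ 1) {A : GU n F q} (hA : Com A y) (X : Submodule F (Fin n → F))
    (hX : ∀ u ∈ X, gm A *ᵥ u ∈ X) : orderOf A ∣ (q ^ 2) ^ finrank F X - 1 :=
  orderOf_dvd_of_semiregular hF A X hX fun j _ _ hv0 hfix => h.free hF hn hodd hy hy1 hA j hv0 hfix

theorem Ty.orderOf_dvd_top (h : Ty q l n) (hF : Fintype.card F = q ^ 2) (hn : 3 ≤ n) (hodd : Odd n) {y : SU n F q}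
    (hy : y ^ l = 1) (hy1 : y ≠ 1) {A : GU n F q} (hA : Com A y) : orderOf A ∣ (q ^ 2) ^ n - 1 := by
  have h1 := h.orderOf_dvd hF hn hodd hy hy1 hA ⊤ (fun _ _ => Submodule.mem_top)
  rwa [finrank_top, finrank_fin_fun] at h1

/-- **A matrix of order dividing `q² - 1` commuting with an irreducible element is scalar.** -/
theorem Ty.scalar_of_orderOf (h : Ty q l n) (hF : Fintype.card F = q ^ 2) (hn : 3 ≤ n) (hodd : Odd n) {y : SU n F q}
    (hy : y ^ l = 1) (hy1 : y ≠ 1) {A : GU n F q} (hA : Com A y) (hd : orderOf A ∣ q ^ 2 - 1) : toAut A 1 = 1 := by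
  have hq := two_le hF
  have h0 : A ^ (q ^ 2 - 1) = 1 := orderOf_dvd_iff_pow_eq_one.1 hd
  have h1 : gm A ^ q ^ 2 = gm A := by
    rw [← gm_pow]
    congr 1
    have h2 : 1 ≤ q ^ 2 := Nat.one_le_pow _ _ (by omega)
    rw [← Nat.sub_add_cancel h2, pow_succ, h0, one_mul]
  have hnt : Nontrivial (Fin n → F) := by
    have : Nonempty (Fin n) := ⟨⟨0, by omega⟩⟩
    infer_instance
  obtain ⟨c, v, hv, hc⟩ := exists_eigen (V := Fin n → F) (Matrix.toLin' (gm A)) (by
    rw [← Matrix.toLin'_pow, hF, h1])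
  rw [Matrix.toLin'_apply] at hc
  exact toAut_eq_one_of_scalar hn (h.scalar_of_eigen hF hn hodd hy hy1 hA hv hc)

/-- **Invariant subspaces.** -/
theorem Ty.scalar_of_inv (h : Ty q l n) (hF : Fintype.card F = q ^ 2) (hn : 3 ≤ n) (hodd : Odd n) {y : SU n F q}
    (hy : y ^ l = 1) (hy1 : y ≠ 1) {A : GU n F q} (hA : Com A y) (X : Submodule F (Fin n → F))
    (hX : ∀ u ∈ X, gm A *ᵥ u ∈ X) (hcop : Nat.Coprime n (finrank F X)) : toAut A 1 = 1 := by
  have h1 := h.orderOf_dvd hF hn hodd hy hy1 hA X hX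
  have h2 := h.orderOf_dvd_top hF hn hodd hy hy1 hA
  have h3 := Nat.dvd_gcd h2 h1
  rw [Nat.pow_sub_one_gcd_pow_sub_one, hcop, pow_one] at h3
  exact h.scalar_of_orderOf hF hn hodd hy hy1 hA h3

end Cfsg.Agent.H173.RU
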