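import Cfsg.Agent.H173.RU.Odd

/-!
# Row PSU of S4329: `PSU_3(q)` and `PSU_4(2)`
-/

set_option autoImplicit false

namespace Cfsg.Agent.H173.RU

open Cfsg Module Matrix Subgroup
open Cfsg.Agent.LieClassical.HermBasic Cfsg.Agent.LieClassical.HermSiegel
open Cfsg.Agent.ClassicalGeometry.HermOrtho
open Cfsg.Agent.ClassicalGeometry.PSUAutBasic (pr pr_surjective pr_eq_one_iff exists_center_mul)
open Cfsg.Agent.ClassicalGeometry.UnitAutBasic (mem_center_of_scalar)
open Cfsg.Agent.ClassicalGeometry.PSUAutCount (gm gm_mul gm_one gm_mul_inv gm_inv_mul gm_inj herm_gm gm_inv_mulVec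
  gm_mulVec_inv semiConj toAut toAut_pr act_semiConj eq_of_toAut_eq sc gm_sc_mul toAut_sc_mul)
open Cfsg.Agent.CpAutU.Desc (toAut_mul toAut_one)
open Cfsg.Agent.GpUn
open Cfsg.Agent.H568

variable {F : Type*} [Field F] [Fintype F] {q n l k : ℕ}

/-! ### `PSU_3(q)`, `p = 3` dividing `q + 1` -/

/-- the eigenspaces of an element of `SU` -/
def eigS (y : SU n F q) (c : F) : Submodule F (Fin n → F) where
  carrier := {v | act y v = c • v}
  add_mem' := fun {u v} hu hv => by
    show act y (u + v) = c • (u + v)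
    rw [act_add, show act y u = c • u from hu, show act y v = c • v from hv, smul_add]
  zero_mem' := by show act y 0 = c • 0; rw [act_zero, smul_zero]
  smul_mem' := fun a v hv => by
    show act y (a • v) = c • a • v
    rw [act_smul, show act y v = c • v from hv, smul_comm]

omit [Fintype F] in
theorem mem_eigS {y : SU n F q} {c : F} {v : Fin n → F} : v ∈ eigS y c ↔ act y v = c • v := Iff.rfl

/-- A matrix commuting with an element of type `3` and with a nonscalar element with an eigenvector is scalar. -/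
theorem Ty.scalar_three (h : Ty q l 3) (hF : Fintype.card F = q ^ 2) {y₁ : SU 3 F q} (hy₁ : y₁ ^ l = 1)
    (hy₁1 : y₁ ≠ 1) {A : GU 3 F q} (hA : Com A y₁) {m : ℕ} (hm : m.Coprime (q + 1)) {y : SU 3 F q} (hy : y ^ m = 1)
    (hy1 : y ≠ 1) (hA' : Com A y) {c : F} {v : Fin 3 → F} (hv : v ≠ 0) (hyv : act y v = c • v) : toAut A 1 = 1 := by
  apply h.scalar_of_inv hF le_rfl ⟨1, rfl⟩ hy₁ hy₁1 hA (eigS y c)
  · intro u hu
    rw [mem_eigS] at hu ⊢
    rw [← hA', hu, mulVec_smul]
  · have h1 : finrank F (eigS y c) ≠ 0 := by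
      intro h0
      apply hv
      have h2 : v ∈ eigS y c := hyv
      rwa [Submodule.finrank_eq_zero.1 h0, Submodule.mem_bot] at h2
    have h2 : finrank F (eigS y c) ≠ 3 := by
      intro h0
      apply hy1
      have h3 : eigS y c = ⊤ := by
        apply Submodule.eq_top_of_finrank_eq
        rw [h0, finrank_fin_fun]
      refine eq_one_of_center hF le_rfl hm (mem_center_of_scalar (c := c) fun w => ?_) hy
      have h4 : w ∈ eigS y c := by rw [h3]; trivial
      exact h4
    have h3 : finrank F (eigS y c) ≤ 3 := by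
      have := Submodule.finrank_le (eigS y c)
      rwa [finrank_fin_fun] at this
    have h4 : finrank F (eigS y c) = 1 ∨ finrank F (eigS y c) = 2 := by omega
    rcases h4 with h4 | h4 <;> rw [h4] <;> norm_num

theorem card_three (hF : Fintype.card F = q ^ 2) :
    (q + 1) * Nat.card (Cfsg.SU 3 F q) = q ^ 3 * ((q + 1) * (q ^ 2 - 1) * (q ^ 3 + 1)) := by
  have h1 := Cfsg.Agent.S0278.result hF 3 (by omega)
  rw [h1]
  norm_num [Finset.prod_range_succ, Nat.even_add_one]

/-- The second prime. -/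
theorem exists_second (hF : Fintype.card F = q ^ 2) (hq2 : q ≠ 2) (h3 : 3 ∣ q + 1) :
    ∃ m : ℕ, m.Prime ∧ 3 < m ∧ m.Coprime (q + 1) ∧ (∃ y : SU 3 F q, orderOf y = m) ∧
      ∀ y : SU 3 F q, y ^ m = 1 → ∃ (c : F) (v : Fin 3 → F), v ≠ 0 ∧ act y v = c • v := by
  have hq := two_le hF
  obtain ⟨r, f, hr, hch, hqr, hf⟩ := exists_prime_pow hF
  have := Fact.mk hr
  have hrq : r ∣ q := by rw [hqr]; exact dvd_pow_self r hf.ne'
  have hcop0 : Nat.Coprime q (q + 1) := by simp
  have hr3 : r ≠ 3 := by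
    rintro rfl
    have h4 := Nat.dvd_gcd hrq h3
    rw [hcop0] at h4
    omega
  have hcard := card_three hF
  rcases eq_or_ne r 2 with hr2 | hr2
  · -- characteristic `2`
    subst hr2
    have hfo : Odd f := by
      rw [← Nat.not_even_iff_odd]
      rintro ⟨a, ha⟩
      rw [hqr, ha, ← two_mul, pow_mul, ← Nat.modEq_zero_iff_dvd] at h3
      have h4 : (2 ^ 2) ^ a + 1 ≡ 1 ^ a + 1 [MOD 3] := (Nat.ModEq.pow a (by decide : 2 ^ 2 ≡ 1 [MOD 3])).add_right 1
      have h5 := h4.symm.trans h3
      rw [one_pow] at h5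
      exact absurd h5 (by decide)
    have hf3 : 3 ≤ f := by
      obtain ⟨b, hb⟩ := hfo
      rcases Nat.eq_zero_or_pos b with rfl | hb0
      · exfalso
        apply hq2
        rw [hqr, hb]
        norm_num
      · omega
    have h8 : 8 ≤ q := by
      rw [hqr]
      calc 8 = 2 ^ 3 := by norm_num
        _ ≤ 2 ^ f := Nat.pow_le_pow_right (by norm_num) hf3
    have hm := Nat.minFac_prime (n := q - 1) (by omega)
    have hmd := Nat.minFac_dvd (q - 1)
    set m := (q - 1).minFac with hmdef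
    have hm2 : m ≠ 2 := by
      intro h
      rw [h] at hmd
      have h4 : 2 ∣ q := hrq
      omega
    have hm3 : m ≠ 3 := by
      intro h
      rw [h] at hmd
      omega
    have hcop : m.Coprime (q + 1) := by
      rw [Nat.Prime.coprime_iff_not_dvd hm]
      intro h4
      have h5 : m ∣ 2 := by
        have h6 := Nat.dvd_sub h4 hmd
        have h7 : q + 1 - (q - 1) = 2 := by omega
        rwa [h7] at h6
      exact hm2 ((Nat.prime_dvd_prime_iff_eq hm Nat.prime_two).1 h5)
    refine ⟨m, hm, ?_, hcop, ?_, ?_⟩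
    · have := hm.two_le
      omega
    · have := Fact.mk hm
      apply exists_prime_orderOf_dvd_card' m
      have h4 : m ∣ (q + 1) * Nat.card (Cfsg.SU 3 F q) := by
        rw [hcard]
        apply Dvd.dvd.mul_left
        apply Dvd.dvd.mul_right
        apply Dvd.dvd.mul_left
        have h5 : q ^ 2 - 1 = (q + 1) * (q - 1) := by
          have := Nat.sq_sub_sq q 1
          simpa using this
        rw [h5]
        exact Dvd.dvd.mul_left hmd _
      exact hcop.dvd_of_dvd_mul_left h4
    · intro y hy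
      have h4 : q ^ 2 = 1 + m * ((q - 1) / m * (q + 1)) := by
        have h5 : m * ((q - 1) / m * (q + 1)) = (q - 1) * (q + 1) := by
          rw [← mul_assoc, Nat.mul_div_cancel' hmd]
        rw [h5]
        obtain ⟨q', rfl⟩ : ∃ q', q = q' + 1 := ⟨q - 1, by omega⟩
        rw [Nat.add_sub_cancel]
        ring
      have h5 : y ^ q ^ 2 = y := by
        rw [h4, pow_add, pow_mul, hy, one_pow, pow_one, mul_one]
      have h6 : ∀ (g : SU 3 F q) (k : ℕ), mat (g ^ k) = mat g ^ k := by
        intro g k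
        induction k with
        | zero => rw [pow_zero, pow_zero]; rfl
        | succ k ih => rw [pow_succ, pow_succ, ← ih]; rfl
      obtain ⟨c, v, hv, hc⟩ := exists_eigen (V := Fin 3 → F) (Matrix.toLin' (mat y)) (by
        rw [← Matrix.toLin'_pow, hF, ← h6, h5])
      rw [Matrix.toLin'_apply] at hc
      exact ⟨c, v, hv, hc⟩
  · -- odd characteristic `r ≥ 5`
    have hr2' := hr.two_le
    have hr4 : r ≠ 4 := by rintro rfl; exact absurd hr (by norm_num)
    have hcop : r.Coprime (q + 1) := Nat.Coprime.coprime_dvd_left hrq hcop0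
    refine ⟨r, hr, by omega, hcop, ?_, ?_⟩
    · apply exists_prime_orderOf_dvd_card' r
      have h4 : r ∣ (q + 1) * Nat.card (Cfsg.SU 3 F q) := by
        rw [hcard]
        exact Dvd.dvd.mul_right (dvd_pow hrq (by norm_num)) _
      exact hcop.dvd_of_dvd_mul_left h4
    · intro y hy
      have hP : IsPGroup r ↥(zpowers y) := by
        rw [IsPGroup.iff_card, Nat.card_zpowers]
        obtain ⟨i, -, hi⟩ := (Nat.dvd_prime_pow hr).1 (show orderOf y ∣ r ^ 1 by
          rw [pow_one]; exact orderOf_dvd_of_pow_eq_one hy)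
        exact ⟨i, hi⟩
      obtain ⟨v, -, hv, hv2⟩ := exists_fixed hF (zpowers y) hP ⊤ (fun _ _ _ _ => Submodule.mem_top) (by
        intro h4
        have h5 : finrank F (⊤ : Submodule F (Fin 3 → F)) = 0 := by rw [h4]; exact finrank_bot F _
        rw [finrank_top, finrank_fin_fun] at h5
        omega)
      exact ⟨1, v, hv, by rw [one_smul]; exact hv2 y (mem_zpowers y)⟩

/-- **Linear automorphisms of `PSU_3(q)`.** -/
theorem three_case (hF : Fintype.card F = q ^ 2) (hq2 : q ≠ 2) {p : ℕ} [hp : Fact p.Prime] (hp2 : p ≠ 2)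
    (hpF : (p : F) ≠ 0) (hpq : ¬ p ∣ q) {A : GU 3 F q} (ha : orderOf (toAut A 1) = p) :
    ((∃ s : PSU 3 F q, toAut A 1 = MulAut.conj s) ∧
        ∃ P : Sylow p (PSU 3 F q), IsCyclic ↥(P : Subgroup (PSU 3 F q))) ∨
      ∃ x : PSU 3 F q, ¬ p ∣ orderOf x ∧ PCent p x ∧ ∀ g : MulAut (PSU 3 F q), (g * toAut A 1 * g⁻¹) x ≠ x := by
  have hq := two_le hF
  obtain ⟨r, f, hr, hch, hqr, hf⟩ := exists_prime_pow hF
  obtain ⟨l, h, -, hl1, -⟩ := exists_odd hr hf hqr (k := 3) ⟨1, rfl⟩ le_rfl (by omega)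
  by_cases hty : Ty q p 3
  · exact Or.inl (hty.first hF le_rfl ⟨1, rfl⟩ ha)
  right
  have hlp : l ≠ p := by rintro rfl; exact hty h
  by_cases hp3 : p = 3 ∧ p ∣ q + 1
  · obtain ⟨rfl, h3⟩ := hp3
    by_cases hfree : ∀ z : PSU 3 F q, z ^ l = 1 → z ≠ 1 → toAut A 1 z ≠ z
    · exact h.third hF le_rfl (by omega) le_rfl (by omega) hp2 hpF hlp hfree
    · push Not at hfree
      obtain ⟨z, hz, hz1, hfix⟩ := hfree
      have hc := h.coprime_succ (by omega) (by omega)
      obtain ⟨y₁, hy₁, hy₁1, hcom⟩ := exists_com hF le_rfl hc hz hz1 hfix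
      obtain ⟨m, hm, hm3, hmc, ⟨y, hy⟩, hme⟩ := exists_second hF hq2 h3
      have hym : y ^ m = 1 := by rw [← hy]; exact pow_orderOf_eq_one y
      have hy1 : y ≠ 1 := by
        rintro rfl
        rw [orderOf_one] at hy
        omega
      refine third_of hF le_rfl hm hmc hym hy1 (by omega) (pcent_pr hp2 hpF hm (by omega) hm3 hym) ?_
      intro z' hz' hz'1 hfix'
      obtain ⟨y', hy', hy'1, hcom'⟩ := exists_com hF le_rfl hmc hz' hz'1 hfix'
      obtain ⟨c, v, hv, hcv⟩ := hme y' hy'
      have h4 := h.scalar_three hF hy₁ hy₁1 hcom hmc hy' hy'1 hcom' hv hcv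
      rw [h4, orderOf_one] at ha
      exact hp.1.one_lt.ne ha
  · exact h.third hF le_rfl (by omega) le_rfl (by omega) hp2 hpF hlp
      (h.prime_free hF Nat.prime_three le_rfl hpq hp3 hty ha)

end Cfsg.Agent.H173.RU
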